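import Groth.Agent.SymGr.RegLoc
import Groth.Agent.SymGr.FlatFormallyProjective
import Groth.Agent.CAlgCompl.Basic
import Groth.Agent.S2461
import Mathlib

/-!
# Formally smooth local homomorphisms: basic facts

Nakayama for complete local rings, closed fibres, translations between the two notions of adic
formal smoothness.
-/

set_option autoImplicit false

universe u

open TensorProduct IsLocalRing

namespace Groth.Agent.CAlgAndre

/-- A local map of complete local rings which is surjective on residue fields and whose image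
generates the maximal ideal is surjective. -/
theorem surjective_of_maximalIdeal_le {B B' : Type u} [CommRing B] [CommRing B'] [IsLocalRing B] [IsLocalRing B']
    [IsAdicComplete (maximalIdeal B) B] [IsNoetherianRing B'] (g : B →+* B')
    (hle : (maximalIdeal B).map g = maximalIdeal B') (hres : Function.Surjective ((residue B').comp g)) :
    Function.Surjective g := by
  haveI : IsHausdorff ((maximalIdeal B).map g) B' := by rw [hle]; infer_instance
  refine surjective_of_mk_map_comp_surjective (I := maximalIdeal B) g fun y => ?_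
  obtain ⟨y, rfl⟩ := Ideal.Quotient.mk_surjective y
  obtain ⟨x, hx⟩ := hres (residue B' y)
  refine ⟨x, Ideal.Quotient.eq.2 ?_⟩
  rw [hle, ← residue_eq_zero_iff, map_sub, ← hx, RingHom.comp_apply, sub_self]

/-- A kernel inside the closed fibre is stable under the extended ideal. -/
theorem ker_le_smul_ker {A B B' : Type u} [CommRing A] [CommRing B] [CommRing B'] [Algebra A B] [Algebra A B']
    [Module.Flat A B'] (g : B →ₐ[A] B') (hg : Function.Surjective g) (J : Ideal A)
    (hker : ∀ b, g b = 0 → b ∈ J.map (algebraMap A B)) :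
    RingHom.ker g ≤ J.map (algebraMap A B) • RingHom.ker g := by
  classical
  set K : Ideal B := RingHom.ker g with hKdef
  intro x hx
  have hxJ : x ∈ J • (⊤ : Submodule A B) := by rw [Ideal.smul_top_eq_map]; exact hker x hx
  rw [show (⊤ : Submodule A B) = Submodule.span A (Set.range id) by rw [Set.range_id, Submodule.span_univ],
    Submodule.mem_ideal_smul_span_iff_exists_sum] at hxJ
  obtain ⟨l, hlJ, hl⟩ := hxJ
  let a : ↥l.support → A := fun i => l i.1
  have hsum : ∑ i : ↥l.support, a i • i.1 = x := by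
    rw [← hl, Finsupp.sum]
    exact Finset.sum_coe_sort l.support fun b => l b • b
  have hrel : ∑ i : ↥l.support, a i • g i.1 = 0 := by
    rw [← (show g x = 0 from hx), ← hsum, map_sum]
    exact Finset.sum_congr rfl fun i _ => (map_smul g _ _).symm
  obtain ⟨k, c, y, hy, hc⟩ := Module.Flat.isTrivialRelation_of_sum_smul_eq_zero (R := A) (M := B') (f := a) (x := fun i : ↥l.support => g i.1) hrel
  choose z hz using fun j => hg (y j)
  have hmem : ∀ i : ↥l.support, i.1 - ∑ j, c i j • z j ∈ K := fun i => by
    rw [RingHom.mem_ker, map_sub, map_sum, sub_eq_zero]; refine (hy i).trans ?_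
    exact Finset.sum_congr rfl fun j _ => by rw [map_smul, hz]
  have hx' : x = ∑ i : ↥l.support, algebraMap A B (a i) * (i.1 - ∑ j, c i j • z j) := by
    simp only [mul_sub, Finset.sum_sub_distrib, Finset.mul_sum, ← Algebra.smul_def, hsum, smul_smul]
    rw [Finset.sum_comm]
    rw [Finset.sum_eq_zero fun j _ => by rw [← Finset.sum_smul]; exact (hc j).symm ▸ zero_smul A (z j), sub_zero]
  rw [hx']
  refine Submodule.sum_mem _ fun i _ => ?_
  exact Submodule.smul_mem_smul (Ideal.mem_map_of_mem _ (hlJ i.1)) (hmem i)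

/-- A surjection onto a flat algebra which is injective on the closed fibre is injective. -/
theorem injective_of_flat {A B B' : Type u} [CommRing A] [CommRing B] [CommRing B'] [Algebra A B] [Algebra A B']
    [Module.Flat A B'] [IsNoetherianRing B] (g : B →ₐ[A] B') (hg : Function.Surjective g) (J : Ideal A)
    (hJ : J.map (algebraMap A B) ≤ Ideal.jacobson ⊥)
    (hker : ∀ b, g b = 0 → b ∈ J.map (algebraMap A B)) : Function.Injective g := by
  rw [injective_iff_map_eq_zero]
  have hbot := Submodule.eq_bot_of_le_smul_of_le_jacobson_bot (J.map (algebraMap A B)) (RingHom.ker g)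
    (IsNoetherian.noetherian _) (ker_le_smul_ker g hg J hker) hJ
  exact fun b hb => (Submodule.eq_bot_iff _).1 hbot b hb

/-- The nilpotent version. -/
theorem injective_of_flat_of_nilpotent {A B B' : Type u} [CommRing A] [CommRing B] [CommRing B'] [Algebra A B]
    [Algebra A B'] [Module.Flat A B'] (g : B →ₐ[A] B') (hg : Function.Surjective g) (J : Ideal A) {n : ℕ}
    (hJ : J ^ n = ⊥) (hker : ∀ b, g b = 0 → b ∈ J.map (algebraMap A B)) : Function.Injective g := by
  rw [injective_iff_map_eq_zero]
  have h : ∀ k, RingHom.ker g ≤ J.map (algebraMap A B) ^ k • RingHom.ker g := by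
    intro k
    induction k with
    | zero => rw [pow_zero, one_smul]
    | succ k ih =>
      refine ih.trans ?_
      rw [pow_succ, Submodule.mul_smul]
      exact Submodule.smul_mono le_rfl (ker_le_smul_ker g hg J hker)
  intro b hb
  have h1 := h n hb
  rw [← Ideal.map_pow, hJ, Ideal.map_bot, Submodule.bot_smul] at h1
  exact (Submodule.mem_bot B).1 h1

variable {A B : Type u} [CommRing A] [CommRing B] [Algebra A B]

/-- Formal smoothness for the adic topologies gives it over the discrete base. -/
theorem discrete_of_adic {𝔞 : Ideal A} {𝔟 : Ideal B} (hab : ∃ k, (𝔞 ^ k).map (algebraMap A B) ≤ 𝔟)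
    (h : EGA41.IsFormallySmoothAdic A 𝔞 B 𝔟) : CAlgX.IsAdicFormallySmooth A B 𝔟 := by
  intro C _ _ J hJ ψ hψ
  refine h C J ⟨2, hJ⟩ ?_ ψ hψ
  obtain ⟨k, hk⟩ := hψ
  obtain ⟨l, hl⟩ := hab
  refine ⟨l * k * 2, ?_⟩
  have h1 : (𝔞 ^ (l * k)).map (algebraMap A C) ≤ J := by
    rw [Ideal.map_le_iff_le_comap]
    intro a ha
    rw [Ideal.mem_comap, ← Ideal.Quotient.eq_zero_iff_mem]
    have h2 : algebraMap A B a ∈ 𝔟 ^ k := by
      refine Ideal.pow_right_mono hl k ?_
      rw [← Ideal.map_pow, ← pow_mul]
      exact Ideal.mem_map_of_mem _ ha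
    show algebraMap A (C ⧸ J) a = 0
    rw [← ψ.commutes, hk _ h2]
  rw [pow_mul, Ideal.map_pow]
  exact le_bot_iff.1 ((Ideal.pow_right_mono h1 2).trans hJ.le)

/-- Formal smoothness over the discrete base gives it for the adic topologies. -/
theorem adic_of_discrete {𝔞 : Ideal A} {𝔟 : Ideal B} (h : CAlgX.IsAdicFormallySmooth A B 𝔟) :
    EGA41.IsFormallySmoothAdic A 𝔞 B 𝔟 :=
  FSAdic.of_sq_zero _ _ fun C _ _ J hJ _ ψ hψ => h C J hJ ψ hψ

/-- Formal smoothness passes to the closed fibre. -/
theorem discrete_quotient (I : Ideal A) {𝔟 : Ideal B} (h : CAlgX.IsAdicFormallySmooth A B 𝔟) :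
    CAlgX.IsAdicFormallySmooth (A ⧸ I) (B ⧸ I.map (algebraMap A B))
      (𝔟.map (Ideal.Quotient.mk (I.map (algebraMap A B)))) := by
  intro C _ _ J hJ ψ hψ
  letI : Algebra A C := ((algebraMap (A ⧸ I) C).comp (Ideal.Quotient.mk I)).toAlgebra
  haveI : IsScalarTower A (A ⧸ I) C := IsScalarTower.of_algebraMap_eq fun _ => rfl
  haveI : IsScalarTower A (A ⧸ I) (C ⧸ J) := IsScalarTower.of_algebraMap_eq fun _ => rfl
  let q : B →ₐ[A] B ⧸ I.map (algebraMap A B) := Ideal.Quotient.mkₐ A _
  obtain ⟨k, hk⟩ := hψ
  obtain ⟨v, hv⟩ := h C J hJ ((ψ.restrictScalars A).comp q) ⟨k, fun x hx => hk _ (by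
    rw [← Ideal.map_pow]; exact Ideal.mem_map_of_mem _ hx)⟩
  have hvI : I.map (algebraMap A B) ≤ RingHom.ker v := by
    rw [Ideal.map_le_iff_le_comap]
    intro a ha
    rw [Ideal.mem_comap, RingHom.mem_ker, v.commutes, IsScalarTower.algebraMap_apply A (A ⧸ I) C,
      Ideal.Quotient.algebraMap_eq, Ideal.Quotient.eq_zero_iff_mem.2 ha, map_zero]
  let χ : (B ⧸ I.map (algebraMap A B)) →ₐ[A ⧸ I] C :=
    { Ideal.Quotient.lift _ v.toRingHom fun x hx => hvI hx with
      commutes' := fun a => by
        obtain ⟨a, rfl⟩ := Ideal.Quotient.mk_surjective a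
        show Ideal.Quotient.lift _ v.toRingHom _ (Ideal.Quotient.mk _ (algebraMap A B a)) = _
        rw [Ideal.Quotient.lift_mk]
        exact v.commutes a }
  refine ⟨χ, AlgHom.ext fun x => ?_⟩
  obtain ⟨x, rfl⟩ := Ideal.Quotient.mk_surjective x
  exact AlgHom.congr_fun hv x

/-- Transport of adic formal smoothness along isomorphisms of the base and of the algebra. -/
theorem discrete_of_equiv {k k' F F' : Type u} [CommRing k] [CommRing k'] [CommRing F] [CommRing F'] [Algebra k F]
    [Algebra k' F'] (e : k ≃+* k') (f : F ≃+* F') (hef : ∀ c, f (algebraMap k F c) = algebraMap k' F' (e c))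
    (𝔫 : Ideal F) (h : CAlgX.IsAdicFormallySmooth k F 𝔫) : CAlgX.IsAdicFormallySmooth k' F' (𝔫.map f.toRingHom) := by
  intro C _ _ J hJ ψ hψ
  letI : Algebra k C := ((algebraMap k' C).comp e.toRingHom).toAlgebra
  let ψ' : F →ₐ[k] C ⧸ J :=
    { ψ.toRingHom.comp f.toRingHom with
      commutes' := fun c => by
        show ψ (f (algebraMap k F c)) = _
        rw [hef, ψ.commutes]
        rfl }
  obtain ⟨n, hn⟩ := hψ
  obtain ⟨v, hv⟩ := h C J hJ ψ' ⟨n, fun x hx => hn _ (by rw [← Ideal.map_pow]; exact Ideal.mem_map_of_mem _ hx)⟩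
  refine ⟨{ v.toRingHom.comp f.symm.toRingHom with commutes' := fun c => ?_ }, AlgHom.ext fun x => ?_⟩
  · obtain ⟨c, rfl⟩ := e.surjective c
    show v (f.symm (algebraMap k' F' (e c))) = _
    rw [← hef, f.symm_apply_apply, v.commutes]
    rfl
  · obtain ⟨x, rfl⟩ := f.surjective x
    show Ideal.Quotient.mk J (v (f.symm (f x))) = _
    rw [f.symm_apply_apply]
    exact AlgHom.congr_fun hv x

section fibre

variable (A B) [IsLocalRing A]

/-- The residue field at the maximal ideal. -/
noncomputable def residueEquiv : (A ⧸ maximalIdeal A) ≃ₐ[A] (maximalIdeal A).ResidueField :=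
  AlgEquiv.ofBijective (IsScalarTower.toAlgHom A (A ⧸ maximalIdeal A) (maximalIdeal A).ResidueField)
    (maximalIdeal A).bijective_algebraMap_quotient_residueField

/-- The closed fibre. -/
noncomputable def fibreEquiv : (B ⧸ (maximalIdeal A).map (algebraMap A B)) ≃ₐ[A] (maximalIdeal A).Fiber B :=
  ((Algebra.TensorProduct.quotIdealMapEquivTensorQuot B (maximalIdeal A)).restrictScalars A).trans
    ((Algebra.TensorProduct.comm A B (A ⧸ maximalIdeal A)).trans
      (Algebra.TensorProduct.congr (residueEquiv A) AlgEquiv.refl))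

theorem fibreEquiv_algebraMap (c : A ⧸ maximalIdeal A) :
    fibreEquiv A B (algebraMap (A ⧸ maximalIdeal A) (B ⧸ (maximalIdeal A).map (algebraMap A B)) c) =
      algebraMap (maximalIdeal A).ResidueField ((maximalIdeal A).Fiber B) (residueEquiv A c) := by
  obtain ⟨a, rfl⟩ := Ideal.Quotient.mk_surjective c
  show fibreEquiv A B (algebraMap A (B ⧸ (maximalIdeal A).map (algebraMap A B)) a) =
    algebraMap _ _ (residueEquiv A (algebraMap A _ a))
  rw [AlgEquiv.commutes, AlgEquiv.commutes, ← IsScalarTower.algebraMap_apply]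

variable [IsLocalRing B] [IsLocalHom (algebraMap A B)]

theorem map_maximalIdeal_le : (maximalIdeal A).map (algebraMap A B) ≤ maximalIdeal B := by
  exact Ideal.map_le_iff_le_comap.2 fun a ha hu => ha (isUnit_of_map_unit _ a hu)

theorem isLocalRing_quotient_map : IsLocalRing (B ⧸ (maximalIdeal A).map (algebraMap A B)) :=
  haveI : Nontrivial (B ⧸ (maximalIdeal A).map (algebraMap A B)) := Ideal.Quotient.nontrivial_iff.2
    (ne_top_of_le_ne_top (maximalIdeal.isMaximal B).ne_top (map_maximalIdeal_le A B))
  IsLocalRing.of_surjective' (Ideal.Quotient.mk _) Ideal.Quotient.mk_surjective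

/-- A geometrically regular closed fibre is adically formally smooth, and conversely. -/
theorem fibre_iff [IsNoetherianRing B] :
    CAlgX.IsAdicFormallySmooth (A ⧸ maximalIdeal A) (B ⧸ (maximalIdeal A).map (algebraMap A B))
        ((maximalIdeal B).map (Ideal.Quotient.mk ((maximalIdeal A).map (algebraMap A B)))) ↔
      CAlg.IsGeometricallyRegular (maximalIdeal A).ResidueField ((maximalIdeal A).Fiber B) := by
  haveI := isLocalRing_quotient_map A B
  let e := (fibreEquiv A B).toRingEquiv
  haveI : IsLocalRing ((maximalIdeal A).Fiber B) := e.isLocalRing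
  haveI : IsNoetherianRing ((maximalIdeal A).Fiber B) := isNoetherianRing_of_ringEquiv _ e
  rw [IsLocalRing.map_maximalIdeal_of_surjective _ Ideal.Quotient.mk_surjective]
  have hm : (maximalIdeal (B ⧸ (maximalIdeal A).map (algebraMap A B))).map e.toRingHom =
      maximalIdeal ((maximalIdeal A).Fiber B) := IsLocalRing.map_maximalIdeal_of_surjective _ e.surjective
  constructor
  · intro h
    have h1 := discrete_of_equiv (residueEquiv A).toRingEquiv e (fibreEquiv_algebraMap A B) _ h
    rw [hm] at h1
    exact SymGr.isGeometricallyRegular_of_isAdicFormallySmooth h1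
  · intro h
    have h1 := discrete_of_equiv (residueEquiv A).toRingEquiv.symm e.symm (fun c => by
      obtain ⟨c, rfl⟩ := (residueEquiv A).toRingEquiv.surjective c
      rw [RingEquiv.symm_apply_apply, RingEquiv.symm_apply_eq]
      exact (fibreEquiv_algebraMap A B c).symm) _ (SymGr.isAdicFormallySmooth_of_isGeometricallyRegular h)
    have hm' : (maximalIdeal ((maximalIdeal A).Fiber B)).map e.symm.toRingHom = maximalIdeal _ :=
      IsLocalRing.map_maximalIdeal_of_surjective _ e.symm.surjective
    rw [hm'] at h1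
    exact h1

/-- Flatness and formal smoothness of the closed fibre give formal smoothness. -/
theorem discrete_of_flat_of_fibre [IsNoetherianRing B] [Module.Flat A B]
    (h : CAlgX.IsAdicFormallySmooth (A ⧸ maximalIdeal A) (B ⧸ (maximalIdeal A).map (algebraMap A B))
      ((maximalIdeal B).map (Ideal.Quotient.mk ((maximalIdeal A).map (algebraMap A B))))) :
    CAlgX.IsAdicFormallySmooth A B (maximalIdeal B) :=
  discrete_of_adic ⟨1, by rw [pow_one]; exact map_maximalIdeal_le A B⟩ (SymGr.isFormallySmoothAdic_of_flat_of_fibre h)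

end fibre

end Groth.Agent.CAlgAndre
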