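import Groth.Agent.CAlgAndre.RegularPS
import Groth.Agent.CAlgCohen.Normalization
import Mathlib

/-!
# Lifting complete regular algebras over the residue field to power series rings over Cohen rings
-/

set_option autoImplicit false

universe u

open IsLocalRing MvPowerSeries Groth.Agent.FSAdic

namespace Groth.Agent.CAlgAndre

/-- A field or a Cohen ring is a complete regular local ring. -/
theorem base_props {Λ : Type u} [CommRing Λ] (hΛ : IsField Λ ∨ CAlg.IsCohenRing Λ) :
    ∃ _ : IsRegularLocalRing Λ, IsAdicComplete (maximalIdeal Λ) Λ := by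
  rcases hΛ with h | ⟨_, _, hc, -⟩
  · letI := h.toField
    haveI : IsAdicComplete (maximalIdeal Λ) Λ := by
      rw [isField_iff_maximalIdeal_eq.1 h]
      infer_instance
    exact ⟨inferInstance, inferInstance⟩
  · exact ⟨inferInstance, hc⟩

theorem exists_generators (F : Type u) [CommRing F] [IsRegularLocalRing F] {d : ℕ} (hd : ringKrullDim F = d) :
    ∃ z : Fin d → F, Ideal.span (Set.range z) = maximalIdeal F := by
  obtain ⟨s, hcard, hs⟩ := Submodule.FG.exists_span_finset_card_eq_spanFinrank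
    (maximalIdeal F).fg_of_isNoetherianRing
  rw [CAlgReg.spanFinrank_eq_of_dim hd] at hcard
  let e : Fin d ≃ s := (Fintype.equivFinOfCardEq (by simp [hcard])).symm
  refine ⟨fun i => (e i : F), ?_⟩
  rw [← hs]
  congr 1
  ext y
  exact ⟨fun ⟨i, hi⟩ => hi ▸ (e i).2, fun hy => ⟨e.symm ⟨y, hy⟩, by simp⟩⟩

/-- Lifting to an algebra over the coefficient ring. -/
theorem exists_coefficient_lift {Λ : Type u} [CommRing Λ] [IsRegularLocalRing Λ]
    (hΛ : IsField Λ ∨ CAlg.IsCohenRing Λ) {F : Type u} [CommRing F] [IsRegularLocalRing F]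
    [IsAdicComplete (maximalIdeal F) F] (φ : Λ →+* F) (hφ : maximalIdeal Λ ≤ RingHom.ker φ)
    {d : ℕ} (hd : ringKrullDim F = d) :
    ∃ (Q : Type u) (_ : CommRing Q) (_ : IsRegularLocalRing Q) (_ : Algebra Λ Q) (g : Q →+* F) (a : Fin d → Q),
      IsAdicComplete (maximalIdeal Q) Q ∧ ringKrullDim Q = ringKrullDim Λ + d ∧ Function.Surjective g ∧
      g.comp (algebraMap Λ Q) = φ ∧ (maximalIdeal Λ).map (algebraMap Λ Q) ≤ maximalIdeal Q ∧
      (∀ i, a i ∈ maximalIdeal Q) ∧
      maximalIdeal Q ≤ (maximalIdeal Λ).map (algebraMap Λ Q) ⊔ Ideal.span (Set.range a) := by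
  obtain ⟨z, hz⟩ := exists_generators F hd
  have hzm : ∀ i, z i ∈ maximalIdeal F := fun i => hz ▸ Ideal.subset_span ⟨i, rfl⟩
  rcases hΛ with h | ⟨_, hdvr, -, p, hp, hm⟩
  · letI := φ.toAlgebra
    refine ⟨F, inferInstance, inferInstance, inferInstance, RingHom.id F, z, inferInstance, ?_,
      Function.surjective_id, rfl, ?_, hzm, hz.ge.trans le_sup_right⟩
    · letI := h.toField
      rw [hd, ringKrullDim_eq_zero_of_isField h, zero_add]
    · rw [isField_iff_maximalIdeal_eq.1 h, Ideal.map_bot]
      exact bot_le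
  · haveI := Fact.mk hp
    have hpF : (p : F) = 0 := by
      rw [← map_natCast φ]
      exact hφ (hm ▸ Ideal.subset_span rfl)
    haveI : CharP (ResidueField F) p := (CharP.charP_iff_prime_eq_zero hp).2 (by
      rw [← map_natCast (residue F), hpF, map_zero])
    obtain ⟨L, _, _, _, φL, hLc, hmL, hφL⟩ := CAlgCohen.exists_cohen_map F p
    obtain ⟨g, hgX, hgC⟩ := CAlgCohen.exists_eval φL z hzm
    have hg : Function.Surjective g := CAlgCohen.surjective_eval φL hφL z g hgX hgC hz
    let Q := MvPowerSeries (Fin d) L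
    obtain ⟨hQ, hdim⟩ := isRegular_mvPowerSeries L d
    haveI := hQ
    haveI : IsAdicComplete (maximalIdeal Q) Q := CAlgCohen.isAdicComplete_mvPowerSeries L d
    haveI : IsAdicComplete (RingHom.ker g) Q := CAlgCompl.isAdicComplete_of_le
      (le_maximalIdeal (RingHom.ker_ne_top g)) (IsNoetherian.noetherian _) Q
    have hpQ : (p : Q) ∈ RingHom.ker g := by rw [RingHom.mem_ker, map_natCast, hpF]
    let e : (Q ⧸ RingHom.ker g) ≃+* F := RingHom.quotientKerEquivOfSurjective hg
    obtain ⟨ψ, hψ⟩ := CAlgCohen.exists_lift hp hm (RingHom.ker g) hpQ (e.symm.toRingHom.comp φ)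
    letI := ψ.toAlgebra
    have hcomp : g.comp ψ = φ := RingHom.ext fun x => by
      have h1 := congrArg e (RingHom.congr_fun hψ x)
      rw [RingHom.comp_apply, RingHom.comp_apply, RingEquiv.toRingHom_eq_coe, RingEquiv.coe_toRingHom,
        e.apply_symm_apply] at h1
      exact h1
    have hmap : (maximalIdeal Λ).map (algebraMap Λ Q) = Ideal.span {(p : Q)} := by
      rw [hm, Ideal.map_span, Set.image_singleton, map_natCast]
    refine ⟨Q, inferInstance, hQ, inferInstance, g, fun i => X i, inferInstance, ?_, hg, hcomp, ?_,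
      fun i => ?_, ?_⟩
    · rw [hdim, IsPrincipalIdealRing.ringKrullDim_eq_one L (IsDiscreteValuationRing.not_isField L),
        IsPrincipalIdealRing.ringKrullDim_eq_one Λ (@IsDiscreteValuationRing.not_isField Λ _ _ hdvr)]
    · rw [hmap, Ideal.span_singleton_le_iff_mem, CAlgCohen.maximalIdeal_mvPowerSeries]
      refine Submodule.mem_sup_left ?_
      rw [← map_natCast (C : L →+* Q)]
      exact Ideal.mem_map_of_mem _ (hmL ▸ Ideal.subset_span rfl)
    · rw [CAlgCohen.maximalIdeal_mvPowerSeries, augIdeal_eq_span]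
      exact Submodule.mem_sup_right (Ideal.subset_span ⟨i, rfl⟩)
    · rw [CAlgCohen.maximalIdeal_mvPowerSeries, augIdeal_eq_span, hmap, hmL, Ideal.map_span,
        Set.image_singleton, map_natCast]

/-- A complete regular algebra over the residue field lifts to a flat complete regular algebra over a
power series ring over a field or Cohen ring. -/
theorem exists_lift_powerSeries {Λ : Type u} [CommRing Λ] [IsRegularLocalRing Λ]
    (hΛ : IsField Λ ∨ CAlg.IsCohenRing Λ) (n : ℕ) {F : Type u} [CommRing F] [IsRegularLocalRing F]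
    [IsAdicComplete (maximalIdeal F) F] (π : MvPowerSeries (Fin n) Λ →+* F)
    (hπ : maximalIdeal (MvPowerSeries (Fin n) Λ) ≤ RingHom.ker π) :
    ∃ (B : Type u) (_ : CommRing B) (_ : IsRegularLocalRing B) (_ : Algebra (MvPowerSeries (Fin n) Λ) B)
      (g : B →+* F), IsAdicComplete (maximalIdeal B) B ∧
      IsLocalHom (algebraMap (MvPowerSeries (Fin n) Λ) B) ∧ Module.Flat (MvPowerSeries (Fin n) Λ) B ∧
      Function.Surjective g ∧ g.comp (algebraMap _ B) = π ∧
      RingHom.ker g = (maximalIdeal (MvPowerSeries (Fin n) Λ)).map (algebraMap _ B) := by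
  obtain ⟨d, hd⟩ := CAlgReg.exists_dim (R := F)
  let P := MvPowerSeries (Fin n) Λ
  have hmP := CAlgCohen.maximalIdeal_mvPowerSeries Λ n
  obtain ⟨Q, _, _, _, g, a, hQc, hQd, hg, hgφ, hloc, haM, ha⟩ := exists_coefficient_lift hΛ
    (π.comp C) (fun x hx => hπ (hmP.symm ▸ Submodule.mem_sup_left (Ideal.mem_map_of_mem _ hx))) hd
  let B := MvPowerSeries (Fin n) Q
  obtain ⟨hB, hBd⟩ := isRegular_mvPowerSeries Q n
  obtain ⟨hP, hPd⟩ := isRegular_mvPowerSeries Λ n
  haveI := hB
  haveI := hP
  let g' : B →+* F := g.comp (constantCoeff (σ := Fin n) (R := Q))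
  have hg' : Function.Surjective g' := fun x => by
    obtain ⟨q, rfl⟩ := hg x
    exact ⟨C q, congrArg g (constantCoeff_C q)⟩
  have hX : ∀ i, π (X i) = 0 := fun i => hπ (hmP.symm ▸ Submodule.mem_sup_right (by
    rw [augIdeal_eq_span]; exact Ideal.subset_span ⟨i, rfl⟩))
  have hcomp : g'.comp (algebraMap P B) = π := RingHom.ext fun x => by
    have h1 : π x = π (C (constantCoeff x)) := by
      rw [← sub_eq_zero, ← map_sub]
      refine hπ (hmP.symm ▸ Submodule.mem_sup_right ?_)
      rw [RingHom.mem_ker, map_sub, constantCoeff_C, sub_self]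
    rw [h1]
    show g (constantCoeff (MvPowerSeries.map (algebraMap Λ Q) x)) = _
    rw [MvPowerSeries.constantCoeff_map]
    exact RingHom.congr_fun hgφ _
  have hmap : (maximalIdeal P).map (algebraMap P B) =
      ((maximalIdeal Λ).map (algebraMap Λ Q)).map (C : Q →+* B) ⊔ augIdeal Q n := by
    show (maximalIdeal P).map (MvPowerSeries.map (algebraMap Λ Q)) = _
    rw [hmP, Ideal.map_sup, augIdeal_eq_span, augIdeal_eq_span, Ideal.map_span, ← Set.range_comp,
      Ideal.map_map, Ideal.map_map]
    congr 1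
    · congr 1
      exact RingHom.ext fun x => MvPowerSeries.map_C _ x
    · exact congrArg (fun f => Ideal.span (Set.range f)) (funext fun i => MvPowerSeries.map_X _ i)
  have hmB := CAlgCohen.maximalIdeal_mvPowerSeries Q n
  haveI hl : IsLocalHom (algebraMap P B) := ((local_hom_TFAE (algebraMap P B)).out 2 0).1 (by
    rw [hmap, hmB]
    exact sup_le_sup_right (Ideal.map_mono hloc) _)
  obtain ⟨hflat, hker⟩ := flat_and_ker_eq (R := P) (S := B) hd (by rw [hBd, hQd, hPd]; ring) g' hg'
    (Ideal.map_le_iff_le_comap.2 fun x hx => by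
      rw [Ideal.mem_comap, RingHom.mem_ker, ← RingHom.comp_apply, hcomp]
      exact hπ hx)
    (fun i => C (a i)) (fun i => by
      rw [hmB]; exact Submodule.mem_sup_left (Ideal.mem_map_of_mem _ (haM i)))
    (by
      rw [hmap, hmB]
      refine sup_le ((Ideal.map_mono ha).trans ?_) (le_sup_right.trans le_sup_left)
      rw [Ideal.map_sup, Ideal.map_span (C : Q →+* B) (Set.range a), ← Set.range_comp]
      exact sup_le_sup_right le_sup_left _)
  exact ⟨B, inferInstance, hB, inferInstance, g', CAlgCohen.isAdicComplete_mvPowerSeries Q n, hl, hflat,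
    hg', hcomp, hker⟩

end Groth.Agent.CAlgAndre
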