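import Groth.Agent.CAlgAndre.Basic
import Groth.Agent.CAlgAndre.Lift
import Groth.Agent.CplFin.Basic
import Groth.Agent.ArtHull.Hull
import Mathlib

/-!
# Base change of the lift and uniqueness
-/

set_option autoImplicit false

universe u

open IsLocalRing TensorProduct

namespace Groth.Agent.CAlgAndre

/-- The map from the base change of a lift to the residual algebra and its kernel. -/
theorem tensor_ker {P A B F : Type u} [CommRing P] [CommRing A] [IsLocalRing A] [CommRing B] [CommRing F]
    [Algebra P A] [Algebra P B] [IsLocalRing P] (hres : Function.Surjective ((residue A).comp (algebraMap P A)))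
    (hloc : (maximalIdeal P).map (algebraMap P A) ≤ maximalIdeal A) (π : A →+* F) (hπ : maximalIdeal A ≤ RingHom.ker π)
    (g₀ : B →+* F) (hcomp : g₀.comp (algebraMap P B) = π.comp (algebraMap P A))
    (hker : RingHom.ker g₀ = (maximalIdeal P).map (algebraMap P B)) :
    ∃ g : A ⊗[P] B →+* F, (∀ a b, g (a ⊗ₜ b) = π a * g₀ b) ∧
      RingHom.ker g = (maximalIdeal A).map (algebraMap A (A ⊗[P] B)) := by
  letI : Algebra P F := (π.comp (algebraMap P A)).toAlgebra
  let πP : A →ₐ[P] F := { π with commutes' := fun _ => rfl }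
  let gP : B →ₐ[P] F := { g₀ with commutes' := fun x => RingHom.congr_fun hcomp x }
  let g : A ⊗[P] B →+* F := (Algebra.TensorProduct.productMap πP gP).toRingHom
  have hg : ∀ a b, g (a ⊗ₜ b) = π a * g₀ b := fun a b => Algebra.TensorProduct.productMap_apply_tmul πP gP a b
  let M : Ideal (A ⊗[P] B) := (maximalIdeal A).map (algebraMap A (A ⊗[P] B))
  have hMker : M ≤ RingHom.ker g := Ideal.map_le_iff_le_comap.2 fun a ha => by
    rw [Ideal.mem_comap, RingHom.mem_ker, Algebra.TensorProduct.algebraMap_apply, hg,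
      Algebra.algebraMap_self, RingHom.id_apply, RingHom.mem_ker.1 (hπ ha), zero_mul]
  have hrep : ∀ x : A ⊗[P] B, ∃ b : B, x - (1 : A) ⊗ₜ[P] b ∈ M := by
    intro x
    induction x using TensorProduct.induction_on with
    | zero => exact ⟨0, by simp⟩
    | tmul a b =>
      obtain ⟨c, hc⟩ := hres (residue A a)
      refine ⟨c • b, ?_⟩
      have ha : a - algebraMap P A c ∈ maximalIdeal A := by
        rw [← residue_eq_zero_iff, map_sub, ← hc, RingHom.comp_apply, sub_self]
      have hmul : (a - algebraMap P A c) ⊗ₜ[P] b =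
          algebraMap A (A ⊗[P] B) (a - algebraMap P A c) * ((1 : A) ⊗ₜ[P] b) := by
        rw [Algebra.TensorProduct.algebraMap_apply, Algebra.TensorProduct.tmul_mul_tmul,
          Algebra.algebraMap_self, RingHom.id_apply, mul_one, one_mul]
      rw [← TensorProduct.smul_tmul, ← Algebra.algebraMap_eq_smul_one, ← TensorProduct.sub_tmul, hmul]
      exact M.mul_mem_right _ (Ideal.mem_map_of_mem _ ha)
    | add x y hx hy =>
      obtain ⟨b, hb⟩ := hx
      obtain ⟨c, hc⟩ := hy
      refine ⟨b + c, ?_⟩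
      rw [TensorProduct.tmul_add, add_sub_add_comm]
      exact add_mem hb hc
  refine ⟨g, hg, le_antisymm (fun x hx => ?_) hMker⟩
  obtain ⟨b, hb⟩ := hrep x
  have hb0 : b ∈ RingHom.ker g₀ := by
    rw [RingHom.mem_ker]
    have h1 := RingHom.mem_ker.1 (hMker hb)
    rw [map_sub, RingHom.mem_ker.1 hx, hg, map_one, one_mul, zero_sub, neg_eq_zero] at h1
    exact h1
  have h2 : (1 : A) ⊗ₜ[P] b ∈ M := by
    rw [hker] at hb0
    have h3 : ((maximalIdeal P).map (algebraMap P B)).map
        (Algebra.TensorProduct.includeRight : B →ₐ[P] A ⊗[P] B).toRingHom ≤ M := by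
      rw [Ideal.map_map, show ((Algebra.TensorProduct.includeRight : B →ₐ[P] A ⊗[P] B).toRingHom.comp
        (algebraMap P B)) = (algebraMap A (A ⊗[P] B)).comp (algebraMap P A) from RingHom.ext fun c => by
          exact ((Algebra.TensorProduct.includeRight : B →ₐ[P] A ⊗[P] B).commutes c).trans
            (IsScalarTower.algebraMap_apply P A (A ⊗[P] B) c), ← Ideal.map_map]
      exact Ideal.map_mono hloc
    exact h3 (Ideal.mem_map_of_mem _ hb0)
  have := add_mem hb h2
  rwa [sub_add_cancel] at this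

/-- A power of the maximal ideal of a finite local algebra lies in the extended maximal ideal. -/
theorem exists_pow_le_of_finite {P A : Type u} [CommRing P] [IsLocalRing P] [CommRing A] [IsLocalRing A]
    [IsNoetherianRing A] [Algebra P A] [Module.Finite P A] :
    ∃ N, maximalIdeal A ^ N ≤ (maximalIdeal P).map (algebraMap P A) := by
  refine Ideal.exists_pow_le_of_le_radical_of_fg ?_ (IsNoetherian.noetherian _)
  rw [Ideal.radical_eq_sInf]
  refine le_sInf fun q ⟨hq, hqp⟩ => ?_
  haveI := hqp
  have hcm : q.comap (algebraMap P A) = maximalIdeal P := by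
    refine le_antisymm (le_maximalIdeal ?_) (Ideal.map_le_iff_le_comap.1 hq)
    exact (Ideal.IsPrime.comap _).ne_top
  have hqmax : q.IsMaximal := Ideal.isMaximal_of_isIntegral_of_isMaximal_comap q (hcm ▸ maximalIdeal.isMaximal P)
  exact (eq_maximalIdeal hqmax).ge

/-- A complete regular algebra over the residue field lifts to a complete flat algebra. -/
theorem exists_lift {A : Type u} [CommRing A] [IsLocalRing A] [IsNoetherianRing A]
    [IsAdicComplete (maximalIdeal A) A] {F : Type u} [CommRing F] [IsRegularLocalRing F]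
    [IsAdicComplete (maximalIdeal F) F] (π : A →+* F) (hπ : maximalIdeal A ≤ RingHom.ker π) :
    ∃ (C : Type u) (_ : CommRing C) (_ : IsLocalRing C) (_ : Algebra A C) (g : C →+* F),
      IsNoetherianRing C ∧ IsAdicComplete (maximalIdeal C) C ∧ IsLocalHom (algebraMap A C) ∧
      Module.Flat A C ∧ Function.Surjective g ∧ g.comp (algebraMap A C) = π ∧
      RingHom.ker g = (maximalIdeal A).map (algebraMap A C) := by
  obtain ⟨Λ, _, n, f, hΛ, hf⟩ : ∃ (Λ : Type u) (_ : CommRing Λ) (n : ℕ) (f : MvPowerSeries (Fin n) Λ →+* A),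
      (IsField Λ ∨ CAlg.IsCohenRing Λ) ∧ Function.Surjective f := by
    obtain ⟨s, hs⟩ := (maximalIdeal A).fg_of_isNoetherianRing
    let z : Fin s.card → A := fun i => (s.equivFin.symm i : A)
    have hz : Ideal.span (Set.range z) = maximalIdeal A := by
      rw [← hs]
      congr 1
      ext y
      exact ⟨fun ⟨i, hi⟩ => hi ▸ (s.equivFin.symm i).2, fun hy => ⟨s.equivFin ⟨y, hy⟩, by simp [z]⟩⟩
    have hzm : ∀ i, z i ∈ maximalIdeal A := fun i => hz ▸ Ideal.subset_span ⟨i, rfl⟩
    by_cases hmix : ∀ p : ℕ, p.Prime → (p : ResidueField A) = 0 → (p : A) = 0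
    · obtain ⟨σ, hσ⟩ := CAlgCohen.exists_coefficientField A hmix
      obtain ⟨f, hX, hC⟩ := CAlgCohen.exists_eval σ z hzm
      exact ⟨_, inferInstance, _, f, .inl (Field.toIsField _),
        CAlgCohen.surjective_eval σ (fun x => ⟨x, RingHom.congr_fun hσ x⟩) z f hX hC hz⟩
    · push Not at hmix
      obtain ⟨p, hp, hp0, -⟩ := hmix
      haveI := Fact.mk hp
      haveI : CharP (ResidueField A) p := (CharP.charP_iff_prime_eq_zero hp).2 hp0
      obtain ⟨Λ, _, _, _, φ, hc, hm, hφ⟩ := CAlgCohen.exists_cohen_map A p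
      obtain ⟨f, hX, hC⟩ := CAlgCohen.exists_eval φ z hzm
      exact ⟨Λ, inferInstance, _, f, .inr ⟨inferInstance, inferInstance, hc, p, hp, hm⟩,
        CAlgCohen.surjective_eval φ hφ z f hX hC hz⟩
  obtain ⟨hΛr, -⟩ := base_props hΛ
  haveI := hΛr
  let P := MvPowerSeries (Fin n) Λ
  letI : Algebra P A := f.toAlgebra
  have hmap : (maximalIdeal P).map (algebraMap P A) = maximalIdeal A :=
    IsLocalRing.map_maximalIdeal_of_surjective f hf
  obtain ⟨B, _, _, _, g₀, hBc, hBl, hBf, hg₀, hcomp, hker⟩ := exists_lift_powerSeries hΛ n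
    (π.comp (algebraMap P A)) (fun x hx => hπ (hmap ▸ Ideal.mem_map_of_mem _ hx))
  obtain ⟨g, hg, hkg⟩ := tensor_ker (fun x => by
    obtain ⟨a, rfl⟩ := residue_surjective x
    obtain ⟨c, hc⟩ := hf a
    exact ⟨c, congrArg _ hc⟩) hmap.le π hπ g₀ hcomp hker
  have hgsurj : Function.Surjective g := fun x => by
    obtain ⟨b, rfl⟩ := hg₀ x
    exact ⟨(1 : A) ⊗ₜ b, by rw [hg, map_one, one_mul]⟩
  let ι : B →+* A ⊗[P] B := (Algebra.TensorProduct.includeRight : B →ₐ[P] A ⊗[P] B).toRingHom
  have hι : Function.Surjective ι := fun x => by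
    induction x using TensorProduct.induction_on with
    | zero => exact ⟨0, map_zero _⟩
    | tmul a b =>
      obtain ⟨c, rfl⟩ := hf a
      refine ⟨c • b, ?_⟩
      show (1 : A) ⊗ₜ[P] (c • b) = f c ⊗ₜ[P] b
      rw [← TensorProduct.smul_tmul, ← Algebra.algebraMap_eq_smul_one]
      rfl
    | add x y hx hy =>
      obtain ⟨b, rfl⟩ := hx
      obtain ⟨c, rfl⟩ := hy
      exact ⟨b + c, map_add _ _ _⟩
  haveI : Nontrivial (A ⊗[P] B) := g.domain_nontrivial
  haveI : IsLocalRing (A ⊗[P] B) := IsLocalRing.of_surjective' ι hι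
  haveI : IsNoetherianRing (A ⊗[P] B) := isNoetherianRing_of_surjective _ _ ι hι
  haveI : IsAdicComplete (maximalIdeal (A ⊗[P] B)) (A ⊗[P] B) := by
    let e : (B ⧸ RingHom.ker ι) ≃+* A ⊗[P] B := RingHom.quotientKerEquivOfSurjective hι
    haveI : IsLocalRing (B ⧸ RingHom.ker ι) := e.symm.isLocalRing
    haveI := ArtHull.isAdicComplete_quotient (RingHom.ker ι)
    have hm : (maximalIdeal (B ⧸ RingHom.ker ι)).map e.toRingHom = maximalIdeal (A ⊗[P] B) :=
      IsLocalRing.map_maximalIdeal_of_surjective e.toRingHom e.surjective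
    rw [← hm]
    exact (IsAdicComplete.congr_ringEquiv _ e).2 inferInstance
  haveI : IsLocalHom (algebraMap A (A ⊗[P] B)) := ((local_hom_TFAE (algebraMap A (A ⊗[P] B))).out 2 0).1 (by
    rw [← hkg]
    exact le_maximalIdeal (RingHom.ker_ne_top g))
  exact ⟨A ⊗[P] B, inferInstance, inferInstance, inferInstance, g, inferInstance, inferInstance, inferInstance,
    inferInstance, hgsurj, RingHom.ext fun a => by
      rw [RingHom.comp_apply, Algebra.TensorProduct.algebraMap_apply, hg, map_one, mul_one]; rfl, hkg⟩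

/-- Formally smooth algebras over complete rings are flat. -/
theorem flat_of_discrete_complete {A B : Type u} [CommRing A] [CommRing B] [IsLocalRing A] [IsLocalRing B]
    [IsNoetherianRing A] [IsNoetherianRing B] [IsAdicComplete (maximalIdeal A) A]
    [IsAdicComplete (maximalIdeal B) B] [Algebra A B] [IsLocalHom (algebraMap A B)]
    (h : CAlgX.IsAdicFormallySmooth A B (maximalIdeal B)) : Module.Flat A B := by
  let I : Ideal B := (maximalIdeal A).map (algebraMap A B)
  haveI : IsLocalRing (B ⧸ I) := isLocalRing_quotient_map A B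
  haveI : IsAdicComplete (maximalIdeal (B ⧸ I)) (B ⧸ I) := ArtHull.isAdicComplete_quotient I
  have hF : IsRegularLocalRing (B ⧸ I) := by
    have h1 := discrete_quotient (maximalIdeal A) h
    rw [IsLocalRing.map_maximalIdeal_of_surjective _ Ideal.Quotient.mk_surjective] at h1
    letI : Field (A ⧸ maximalIdeal A) := Ideal.Quotient.field _
    exact (SymGr.isAdicFormallySmooth_field_iff_regular.1 h1).1
  haveI := hF
  let π : A →+* B ⧸ I := algebraMap A (B ⧸ I)
  have hπ : maximalIdeal A ≤ RingHom.ker π := fun a ha => by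
    rw [RingHom.mem_ker]
    exact Ideal.Quotient.eq_zero_iff_mem.2 (Ideal.mem_map_of_mem _ ha)
  obtain ⟨C, _, _, _, g, hCn, hCc, hCl, hCf, hg, hcomp, hker⟩ := exists_lift π hπ
  haveI := hCn
  haveI := hCc
  haveI := hCl
  haveI := hCf
  have hJne : RingHom.ker g ≠ ⊤ := RingHom.ker_ne_top g
  let e : (C ⧸ RingHom.ker g) ≃+* B ⧸ I := RingHom.quotientKerEquivOfSurjective hg
  haveI : IsLocalRing (C ⧸ RingHom.ker g) := e.symm.isLocalRing
  have hmk : (maximalIdeal C).map (Ideal.Quotient.mk (RingHom.ker g)) = maximalIdeal (C ⧸ RingHom.ker g) :=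
    IsLocalRing.map_maximalIdeal_of_surjective _ Ideal.Quotient.mk_surjective
  haveI : IsHausdorff ((maximalIdeal C).map (Ideal.Quotient.mk (RingHom.ker g))) (C ⧸ RingHom.ker g) := by
    rw [hmk]; infer_instance
  have he : ∀ c, e (Ideal.Quotient.mk _ c) = g c := fun c => rfl
  let u : B →ₐ[A] C ⧸ RingHom.ker g :=
    { e.symm.toRingHom.comp (Ideal.Quotient.mk I) with
      commutes' := fun a => e.injective (by
        show e (e.symm (Ideal.Quotient.mk I (algebraMap A B a))) = e (Ideal.Quotient.mk _ (algebraMap A C a))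
        rw [e.apply_symm_apply, he]
        exact (RingHom.congr_fun hcomp a).symm) }
  obtain ⟨v, -, hvu⟩ := FSAdic.lift_adicComplete (⊥ : Ideal A) (maximalIdeal B) (maximalIdeal C)
    (adic_of_discrete h) ⟨1, by rw [pow_one, Ideal.map_bot]; exact bot_le⟩ (RingHom.ker g)
    ⟨1, by rw [pow_one]; exact le_maximalIdeal hJne⟩ u ⟨1, by
      rw [pow_one, hmk, ← Ideal.map_map]
      refine le_maximalIdeal ?_
      rw [IsLocalRing.map_maximalIdeal_of_surjective _ Ideal.Quotient.mk_surjective,
        IsLocalRing.map_maximalIdeal_of_surjective e.symm.toRingHom e.symm.surjective]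
      exact (maximalIdeal.isMaximal _).ne_top⟩
  have hv : ∀ b, g (v b) = Ideal.Quotient.mk I b := fun b => by
    have h1 := congrArg e (AlgHom.congr_fun hvu b)
    rw [AlgHom.comp_apply, Ideal.Quotient.mkₐ_eq_mk, he] at h1
    exact h1.trans (e.apply_symm_apply _)
  have hkerv : RingHom.ker g ≤ (maximalIdeal B).map v.toRingHom := by
    rw [hker, ← v.comp_algebraMap, ← Ideal.map_map]
    exact Ideal.map_mono (map_maximalIdeal_le A B)
  have hmC : (maximalIdeal B).map v.toRingHom = maximalIdeal C := by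
    refine le_antisymm (Ideal.map_le_iff_le_comap.2 fun b hb => ?_) fun c hc => ?_
    · rw [Ideal.mem_comap, mem_maximalIdeal]
      intro hu
      have h1 : IsUnit (g (v b)) := hu.map g
      rw [hv] at h1
      exact (maximalIdeal.isMaximal (B ⧸ I)).ne_top (Ideal.eq_top_of_isUnit_mem _
        (by rw [← IsLocalRing.map_maximalIdeal_of_surjective _ (Ideal.Quotient.mk_surjective (I := I))]
            exact Ideal.mem_map_of_mem _ hb) h1)
    · obtain ⟨b, hb⟩ := Ideal.Quotient.mk_surjective (g c)
      have hbm : b ∈ maximalIdeal B := by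
        rw [mem_maximalIdeal]
        intro hu
        have h1 : g c ∈ maximalIdeal (B ⧸ I) := by
          rw [← IsLocalRing.map_maximalIdeal_of_surjective g hg]
          exact Ideal.mem_map_of_mem _ hc
        exact (maximalIdeal.isMaximal (B ⧸ I)).ne_top (Ideal.eq_top_of_isUnit_mem _ h1 (hb ▸ hu.map _))
      have h2 : c - v b ∈ RingHom.ker g := by rw [RingHom.mem_ker, map_sub, hv, hb, sub_self]
      have := add_mem (hkerv h2) (Ideal.mem_map_of_mem v.toRingHom hbm)
      rwa [AlgHom.toRingHom_eq_coe, RingHom.coe_coe, sub_add_cancel] at this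
  have hsurj : Function.Surjective v := surjective_of_maximalIdeal_le v.toRingHom hmC fun x => by
    obtain ⟨c, rfl⟩ := residue_surjective x
    obtain ⟨b, hb⟩ := Ideal.Quotient.mk_surjective (g c)
    refine ⟨b, ?_⟩
    rw [RingHom.comp_apply, ← sub_eq_zero, ← map_sub, residue_eq_zero_iff]
    refine le_maximalIdeal hJne ?_
    rw [RingHom.mem_ker, map_sub]
    show g (v b) - _ = 0
    rw [hv, hb, sub_self]
  have hinj : Function.Injective v := injective_of_flat v hsurj (maximalIdeal A)
    ((map_maximalIdeal_le A B).trans (maximalIdeal_le_jacobson _)) fun b hb => by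
      rw [← Ideal.Quotient.eq_zero_iff_mem, ← hv, hb, map_zero]
  exact Module.Flat.of_linearEquiv (AlgEquiv.ofBijective v ⟨hinj, hsurj⟩).toLinearEquiv

end Groth.Agent.CAlgAndre
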