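import Groth.Agent.CAlgAndre.Change
import Groth.Agent.RegLocus.CplDescend
import Groth.Agent.RegLocus.GeomMisc
import Groth.Agent.RegLocus.NagataCrit
import Mathlib

/-!
# Formally smooth local homomorphisms are flat
-/

set_option autoImplicit false

universe u

open IsLocalRing TensorProduct

namespace Groth.Agent.CAlgAndre

/-- Formal smoothness over a ring gives formal smoothness over its completion. -/
theorem discrete_of_dense {A A' B : Type u} [CommRing A] [CommRing A'] [CommRing B] [Algebra A A'] [Algebra A' B]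
    [Algebra A B] [IsScalarTower A A' B] (I : Ideal A') (𝔟 : Ideal B) (hI : I.map (algebraMap A' B) ≤ 𝔟)
    (hdense : ∀ N (x : A'), ∃ a : A, x - algebraMap A A' a ∈ I ^ N)
    (h : CAlgX.IsAdicFormallySmooth A B 𝔟) : CAlgX.IsAdicFormallySmooth A' B 𝔟 := by
  intro C _ _ J hJ ψ hψ
  letI : Algebra A C := ((algebraMap A' C).comp (algebraMap A A')).toAlgebra
  haveI : IsScalarTower A A' C := IsScalarTower.of_algebraMap_eq fun _ => rfl
  haveI : IsScalarTower A A' (C ⧸ J) := IsScalarTower.of_algebraMap_eq fun _ => rfl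
  obtain ⟨χ, hχ⟩ := h C J hJ (ψ.restrictScalars A) hψ
  obtain ⟨k, hk⟩ := FSAdic.vanish_of_lift ⟨2, hJ⟩ χ _ hχ 𝔟 hψ
  obtain ⟨l, hl⟩ := hψ
  have hAC : ∀ x ∈ I ^ (l * 2), algebraMap A' C x = 0 := by
    have h1 : (I ^ l).map (algebraMap A' C) ≤ J := Ideal.map_le_iff_le_comap.2 fun x hx => by
      rw [Ideal.mem_comap, ← Ideal.Quotient.eq_zero_iff_mem]
      show algebraMap A' (C ⧸ J) x = 0
      rw [← ψ.commutes]
      refine hl _ (Ideal.pow_right_mono hI l ?_)
      rw [← Ideal.map_pow]
      exact Ideal.mem_map_of_mem _ hx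
    intro x hx
    have h2 : algebraMap A' C x ∈ (I ^ (l * 2)).map (algebraMap A' C) := Ideal.mem_map_of_mem _ hx
    rw [pow_mul, Ideal.map_pow] at h2
    exact (Ideal.mem_bot).1 (hJ ▸ Ideal.pow_right_mono h1 2 h2)
  refine ⟨{ χ.toRingHom with commutes' := fun x => ?_ }, AlgHom.ext fun b => AlgHom.congr_fun hχ b⟩
  obtain ⟨a, ha⟩ := hdense (l * 2 + k) x
  show χ (algebraMap A' B x) = algebraMap A' C x
  rw [show x = algebraMap A A' a + (x - algebraMap A A' a) by ring, map_add, map_add, map_add,
    hAC _ (Ideal.pow_le_pow_right (Nat.le_add_right _ _) ha), ← IsScalarTower.algebraMap_apply, χ.commutes,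
    hk _ (Ideal.pow_le_pow_right (Nat.le_add_left _ _) (Ideal.pow_right_mono hI _ (by
      rw [← Ideal.map_pow]; exact Ideal.mem_map_of_mem _ ha))), IsScalarTower.algebraMap_apply A A' C]

/-- Formal smoothness passes to the completion. -/
theorem discrete_completion {A B : Type u} [CommRing A] [CommRing B] [IsLocalRing B] [IsNoetherianRing B]
    [Algebra A B] (h : CAlgX.IsAdicFormallySmooth A B (maximalIdeal B)) :
    CAlgX.IsAdicFormallySmooth A (AdicCompletion (maximalIdeal B) B)
      (maximalIdeal (AdicCompletion (maximalIdeal B) B)) := by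
  rw [AdicCompletion.maximalIdeal_eq_map]
  exact discrete_of_adic (𝔞 := ⊥) ⟨1, by rw [pow_one, Ideal.map_bot]; exact bot_le⟩
    ((S2461.result ⊥ (maximalIdeal B)).1 (adic_of_discrete h))

/-- The data of the map of completions. -/
theorem exists_completion_algebra (A B : Type u) [CommRing A] [CommRing B] [IsLocalRing A] [IsLocalRing B]
    [IsNoetherianRing A] [IsNoetherianRing B] [Algebra A B] [IsLocalHom (algebraMap A B)] :
    ∃ (_ : Algebra (AdicCompletion (maximalIdeal A) A) (AdicCompletion (maximalIdeal B) B))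
      (_ : IsScalarTower A (AdicCompletion (maximalIdeal A) A) (AdicCompletion (maximalIdeal B) B)),
      IsLocalHom (algebraMap (AdicCompletion (maximalIdeal A) A) (AdicCompletion (maximalIdeal B) B)) := by
  obtain ⟨θ⟩ := RegLocus.exists_cplMap A B (maximalIdeal A) (maximalIdeal B) (map_maximalIdeal_le A B)
  letI := θ.toRingHom.toAlgebra
  refine ⟨inferInstance, IsScalarTower.of_algebraMap_eq fun a => (θ.commutes a).symm, ?_⟩
  refine ((local_hom_TFAE _).out 2 0).1 ?_
  rw [AdicCompletion.maximalIdeal_eq_map, Ideal.map_map, RingHom.algebraMap_toAlgebra]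
  rw [show θ.toRingHom.comp (algebraMap A _) = (algebraMap B (AdicCompletion (maximalIdeal B) B)).comp
    (algebraMap A B) from RingHom.ext fun a => (θ.commutes a).trans
      (IsScalarTower.algebraMap_apply A B (AdicCompletion (maximalIdeal B) B) a), ← Ideal.map_map,
    AdicCompletion.maximalIdeal_eq_map]
  exact Ideal.map_mono (map_maximalIdeal_le A B)

theorem dense_completion (A : Type u) [CommRing A] [IsLocalRing A] [IsNoetherianRing A] (N : ℕ)
    (x : AdicCompletion (maximalIdeal A) A) :
    ∃ a : A, x - algebraMap A _ a ∈ maximalIdeal (AdicCompletion (maximalIdeal A) A) ^ N := by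
  obtain ⟨a, ha⟩ := Ideal.Quotient.mk_surjective (AdicCompletion.evalₐ (maximalIdeal A) N x)
  refine ⟨a, ?_⟩
  rw [AdicCompletion.maximalIdeal_eq_map, ← FSAdic.ker_evalₐ (maximalIdeal A) (IsNoetherian.noetherian _),
    RingHom.mem_ker, map_sub, sub_eq_zero]
  exact ha.symm.trans (AlgHom.commutes _ a).symm

/-- Formally smooth local homomorphisms of Noetherian local rings are flat. -/
theorem flat_of_discrete {A B : Type u} [CommRing A] [CommRing B] [IsLocalRing A] [IsLocalRing B]
    [IsNoetherianRing A] [IsNoetherianRing B] [Algebra A B] [IsLocalHom (algebraMap A B)]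
    (h : CAlgX.IsAdicFormallySmooth A B (maximalIdeal B)) : Module.Flat A B := by
  obtain ⟨hA, hAff, -⟩ := RegLocus.cpl_facts A
  obtain ⟨hB, hBff, -⟩ := RegLocus.cpl_facts B
  haveI := hA
  haveI := hB
  haveI := hAff
  haveI := hBff
  obtain ⟨_, _, hl⟩ := exists_completion_algebra A B
  haveI := hl
  let A' := AdicCompletion (maximalIdeal A) A
  let B' := AdicCompletion (maximalIdeal B) B
  have h' : CAlgX.IsAdicFormallySmooth A' B' (maximalIdeal B') :=
    discrete_of_dense (maximalIdeal A') _ (map_maximalIdeal_le A' B') (dense_completion A) (discrete_completion h)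
  haveI : Module.Flat A' B' := flat_of_discrete_complete h'
  haveI : Module.Flat A B' := Module.Flat.trans A A' B'
  exact RegLocus.flat_of_comp_faithfullyFlat A B B'

end Groth.Agent.CAlgAndre
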