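import Groth.Agent.CAlgAndre.Flat
import Groth.Agent.SymGr.FormalFibre
import Groth.Agent.SymGr.CompleteFibre
import Groth.Agent.SymGr.DerLift
import Mathlib

/-!
# Generic fibres of formally smooth algebras over power series rings
-/

set_option autoImplicit false

universe u

open IsLocalRing TensorProduct

namespace Groth.Agent.CAlgAndre

attribute [local instance] ULift.algebra'

/-- A derivation of the base extends to a formally smooth complete algebra. -/
theorem exists_derivation_extend {P B : Type u} [CommRing P] [CommRing B] [IsLocalRing B] [IsNoetherianRing B]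
    [IsAdicComplete (maximalIdeal B) B] [Algebra P B] (h : CAlgX.IsAdicFormallySmooth P B (maximalIdeal B))
    (D : Derivation ℤ P P) :
    ∃ D' : Derivation ℤ B B, ∀ c, D' (algebraMap P B c) = algebraMap P B (D c) := by
  haveI : IsScalarTower (ULift.{u} ℤ) P B := IsScalarTower.of_algebraMap_eq fun z => by
    simp [ULift.algebraMap_apply']
  let D₀ : Derivation (ULift.{u} ℤ) P B :=
    Derivation.mk'
      { toFun := fun c => algebraMap P B (D c)
        map_add' := fun a b => by rw [map_add, map_add]
        map_smul' := fun z a => by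
          show algebraMap P B (D (z.down • a)) = z.down • algebraMap P B (D a)
          rw [map_zsmul, map_zsmul] }
      fun a b => by
        show algebraMap P B (D (a * b)) = a • algebraMap P B (D b) + b • algebraMap P B (D a)
        rw [Derivation.leibniz, map_add, smul_eq_mul, smul_eq_mul, map_mul, map_mul, Algebra.smul_def,
          Algebra.smul_def]
  haveI : Subsingleton (B ⧸ (⊤ : Ideal B)) := Ideal.Quotient.subsingleton_iff.2 rfl
  obtain ⟨D', -, hD'⟩ := SymGr.exists_derivation_lift_complete h (⊤ : Ideal B) D₀ 0 fun c => Subsingleton.elim _ _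
  refine ⟨Derivation.mk'
    { toFun := fun b => D' b
      map_add' := fun a b => map_add D' a b
      map_smul' := fun z a => by
        show D' (z • a) = z • D' a
        rw [map_zsmul] }
    fun a b => D'.leibniz a b, hD'⟩

set_option maxHeartbeats 1000000 in
/-- The generic fibre is geometrically regular. -/
theorem generic_fibre {Λ : Type u} [CommRing Λ] (hΛ : IsField Λ ∨ CAlg.IsCohenRing Λ) (n : ℕ)
    [IsDomain (MvPowerSeries (Fin n) Λ)]
    (K : Type u) [Field K] [Algebra (MvPowerSeries (Fin n) Λ) K] [IsFractionRing (MvPowerSeries (Fin n) Λ) K]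
    {B : Type u} [CommRing B] [IsRegularLocalRing B] [IsAdicComplete (maximalIdeal B) B]
    [Algebra (MvPowerSeries (Fin n) Λ) B]
    (hB : CAlgX.IsAdicFormallySmooth (MvPowerSeries (Fin n) Λ) B (maximalIdeal B)) :
    CAlg.IsGeometricallyRegular K (K ⊗[MvPowerSeries (Fin n) Λ] B) := by
  classical
  refine SymGr.isGeometricallyRegular_fibre_of (MvPowerSeries (Fin n) Λ) K B
    fun q _ hq S _ _ _ _ _ _ _ _ => ?_
  haveI : IsRegularRing B := RegLocus.isRegularRing_of_regular_local B
  haveI : IsRegularLocalRing (Localization.AtPrime q) := (isRegularRing_iff.1 ‹IsRegularRing B›) q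
  haveI : IsRegularLocalRing S := IsRegularLocalRing.of_ringEquiv (R := Localization.AtPrime q)
    (IsLocalization.algEquiv q.primeCompl (Localization.AtPrime q) S).toRingEquiv
  by_cases hK : CharZero K
  · haveI := hK
    exact SymGr.isAdicFormallySmooth_of_regular_perfect
  rcases hΛ with hF | ⟨_, _, -, p, hp, hm⟩
  swap
  · exfalso
    haveI := CAlgCohen.charZero hp hm
    haveI : CharZero (MvPowerSeries (Fin n) Λ) :=
      charZero_of_injective_ringHom (f := (MvPowerSeries.C (σ := Fin n) (R := Λ))) (MvPowerSeries.C_injective (σ := Fin n) (R := Λ))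
    exact hK (charZero_of_injective_ringHom (f := algebraMap (MvPowerSeries (Fin n) Λ) K)
      (IsFractionRing.injective _ _))
  letI := hF.toField
  let P := MvPowerSeries (Fin n) Λ
  obtain ⟨p, hp⟩ := CharP.exists Λ
  rcases CharP.char_is_prime_or_zero Λ p with hpr | rfl
  swap
  · exfalso
    haveI : CharZero Λ := CharP.charP_to_charZero Λ
    haveI : CharZero P :=
      charZero_of_injective_ringHom (f := (MvPowerSeries.C (σ := Fin n) (R := Λ))) (MvPowerSeries.C_injective (σ := Fin n) (R := Λ))
    exact hK (charZero_of_injective_ringHom (f := algebraMap P K) (IsFractionRing.injective _ _))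
  haveI := Fact.mk hpr
  haveI : CharP P p := charP_of_injective_ringHom (f := (MvPowerSeries.C (σ := Fin n) (R := Λ))) (MvPowerSeries.C_injective (σ := Fin n) (R := Λ)) p
  haveI : CharP K p := charP_of_injective_algebraMap (IsFractionRing.injective P K) p
  refine SymGr.isAdicFormallySmooth_of_derivations p fun σ _ _ x hx i => ?_
  obtain ⟨ι, _, S', hdir, hS', hint⟩ := Groth.Agent.S4548.result p Λ n
  let e : FractionRing P ≃ₐ[P] K := FractionRing.algEquiv P K
  obtain ⟨a, D, DK, ha, hD, hval⟩ := SymGr.exists_bounded_derivation p S' hdir (fun j => (hS' j).2.2)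
    (fun z => by
      have h1 := Set.ext_iff.1 hint (e.symm z)
      simp only [Set.iInf_eq_iInter, Subfield.coe_iInf, Set.mem_iInter, Set.mem_range, SetLike.mem_coe] at h1
      have h2 : ∀ j, z ∈ Subfield.closure (algebraMap P K '' (S' j : Set P)) ↔
          e.symm z ∈ Subfield.closure (algebraMap P (FractionRing P) '' (S' j : Set P)) := fun j => by
        have h3 : (Subfield.closure (algebraMap P (FractionRing P) '' (S' j : Set P))).map e.toRingEquiv.toRingHom =
            Subfield.closure (algebraMap P K '' (S' j : Set P)) := by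
          rw [RingHom.map_field_closure, Set.image_image]
          exact congrArg Subfield.closure (Set.image_congr fun w _ => e.commutes w)
        rw [← h3, Subfield.mem_map]
        exact ⟨fun ⟨w, hw, hwz⟩ => by rw [← hwz]; simpa using hw, fun hw => ⟨_, hw, e.apply_symm_apply z⟩⟩
      refine ⟨fun h => ?_, fun ⟨y, hy⟩ => ?_⟩
      · obtain ⟨y, hy⟩ := h1.1 fun j => (h2 j).1 (h j)
        exact ⟨e y, by rw [← map_pow, hy, e.apply_symm_apply]⟩
      · intro j
        exact (h2 j).2 (h1.2 ⟨e.symm y, by rw [← map_pow, hy]⟩ j)) x hx i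
  obtain ⟨D1, hD1⟩ := exists_derivation_extend hB D
  obtain ⟨D2, hD2⟩ := SymGr.exists_derivation_localization (S := S) q.primeCompl D1
  have hau : IsUnit (algebraMap P S a) := by
    rw [IsScalarTower.algebraMap_apply P B S]
    exact IsLocalization.map_units S (⟨algebraMap P B a, fun h => ha (hq a h)⟩ : q.primeCompl)
  have hB' : ∀ c : P, D2 (algebraMap P S c) = algebraMap P S (D c) := fun c => by
    rw [IsScalarTower.algebraMap_apply P B S, hD2, hD1, ← IsScalarTower.algebraMap_apply P B S]
  have hKd : ∀ z : K, D2 (algebraMap K S z) = algebraMap P S a * algebraMap K S (DK z) := by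
    intro z
    obtain ⟨⟨v, w⟩, huv⟩ := IsLocalization.surj (nonZeroDivisors P) z
    have hwu : IsUnit (algebraMap P S (w : P)) := by
      rw [IsScalarTower.algebraMap_apply P K S]
      exact (IsLocalization.map_units K w).map _
    have h2 : algebraMap K S z * algebraMap P S (w : P) = algebraMap P S v := by
      rw [IsScalarTower.algebraMap_apply P K S, IsScalarTower.algebraMap_apply P K S, ← map_mul, huv]
    have e1 := congrArg D2 h2
    rw [Derivation.leibniz, smul_eq_mul, smul_eq_mul, hB', hB'] at e1
    have e2 := congrArg (algebraMap K S) (congrArg (fun y => algebraMap P K a * DK y) huv)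
    simp only [Derivation.leibniz, smul_eq_mul, map_mul, map_add] at e2
    have hDa : ∀ c : P, algebraMap P S (D c) = algebraMap P S a * algebraMap K S (DK (algebraMap P K c)) := fun c => by
      rw [IsScalarTower.algebraMap_apply P K S, hD, map_mul, ← IsScalarTower.algebraMap_apply]
    rw [hDa, hDa] at e1
    simp only [← IsScalarTower.algebraMap_apply] at e2
    refine hwu.mul_left_cancel ?_
    linear_combination e1 - e2
  refine ⟨(↑hau.unit⁻¹ : S) • D2, fun j => ?_⟩
  rw [Derivation.smul_apply, hKd, hval, smul_eq_mul, ← mul_assoc, IsUnit.val_inv_mul, one_mul]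
  split_ifs <;> simp

end Groth.Agent.CAlgAndre
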