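import Groth.Agent.CAlgAndre.Local
import Groth.Agent.CAlgGRing.Maximal
import Groth.Agent.SymGr.FormalFibre
import Groth.Agent.FormalFibreQF.Basic
import Mathlib

/-!
# Regular homomorphisms and formally smooth local maps
-/

set_option autoImplicit false

universe u

open IsLocalRing TensorProduct

namespace Groth.Agent.CAlgAndre

theorem discrete_of_comap_eq {A B : Type u} [CommRing A] [CommRing B] [Algebra A B] (p : Ideal A) [p.IsPrime]
    (q : Ideal B) [q.IsPrime] (hq : p = q.comap (algebraMap A B))
    (h : letI := (Localization.localRingHom (q.comap (algebraMap A B)) q (algebraMap A B) rfl).toAlgebra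
      CAlgX.IsAdicFormallySmooth (Localization.AtPrime (q.comap (algebraMap A B))) (Localization.AtPrime q)
        (maximalIdeal (Localization.AtPrime q))) :
    letI := (Localization.localRingHom p q (algebraMap A B) hq).toAlgebra
    CAlgX.IsAdicFormallySmooth (Localization.AtPrime p) (Localization.AtPrime q)
      (maximalIdeal (Localization.AtPrime q)) := by
  subst hq
  exact h

/-- Formally smooth local maps give geometrically regular fibres. -/
theorem isGeometricallyRegular_fiber {A B : Type u} [CommRing A] [CommRing B] [Algebra A B] [IsNoetherianRing B]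
    (p : Ideal A) [p.IsPrime]
    (h : ∀ (q : Ideal B) [q.IsPrime], q.comap (algebraMap A B) = p →
      letI := (Localization.localRingHom (q.comap (algebraMap A B)) q (algebraMap A B) rfl).toAlgebra
      CAlgX.IsAdicFormallySmooth (Localization.AtPrime (q.comap (algebraMap A B))) (Localization.AtPrime q)
        (maximalIdeal (Localization.AtPrime q))) :
    CAlg.IsGeometricallyRegular p.ResidueField (p.Fiber B) := by
  haveI := RegLocus.isNoetherianRing_fiber A B p
  refine SymGr.isGeometricallyRegular_of_local _ _ fun P hP => ?_
  let ι : B →ₐ[A] p.Fiber B := Algebra.TensorProduct.includeRight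
  let q : Ideal B := P.comap ι.toRingHom
  haveI : q.IsPrime := Ideal.comap_isPrime _ P
  have hq : q.comap (algebraMap A B) = p := by
    ext a
    show ι (algebraMap A B a) ∈ P ↔ a ∈ p
    rw [ι.commutes, IsScalarTower.algebraMap_apply A p.ResidueField (p.Fiber B)]
    refine ⟨fun ha => ?_, fun ha => ?_⟩
    · by_contra hna
      exact hP.ne_top (Ideal.eq_top_of_isUnit_mem _ ha ((Ne.isUnit fun h0 =>
        hna (Ideal.algebraMap_residueField_eq_zero.1 h0)).map _))
    · rw [Ideal.algebraMap_residueField_eq_zero.2 ha, map_zero]
      exact zero_mem P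
  have h' := discrete_of_comap_eq p q hq.symm (h q hq)
  let K := p.ResidueField
  let Bq := Localization.AtPrime q
  let Ap := Localization.AtPrime p
  let WP := Localization.AtPrime P
  letI : Algebra Ap Bq := (Localization.localRingHom p q (algebraMap A B) hq.symm).toAlgebra
  intro C _ _ J hJ ψ hψ
  letI : Algebra A C := ((algebraMap K C).comp (algebraMap A K)).toAlgebra
  haveI : IsScalarTower A K C := IsScalarTower.of_algebraMap_eq fun _ => rfl
  letI : Algebra Ap C := ((algebraMap K C).comp (algebraMap Ap K)).toAlgebra
  haveI : IsScalarTower A Ap C := IsScalarTower.of_algebraMap_eq fun a => by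
    show algebraMap K C (algebraMap A K a) = algebraMap K C (algebraMap Ap K (algebraMap A Ap a))
    rw [← IsScalarTower.algebraMap_apply A Ap K]
  let g : Bq →+* WP := Localization.localRingHom q P ι.toRingHom rfl
  have hg : ∀ b, g (algebraMap B Bq b) = algebraMap (p.Fiber B) WP (ι b) := fun b =>
    Localization.localRingHom_to_map _ _ _ _ b
  let ψ' : Bq →ₐ[Ap] C ⧸ J :=
    { ψ.toRingHom.comp g with
      commutes' := fun x => by
        refine RingHom.congr_fun (IsLocalization.ringHom_ext p.primeCompl (S := Ap)
          (j := (ψ.toRingHom.comp g).comp (algebraMap Ap Bq)) (k := algebraMap Ap (C ⧸ J)) (RingHom.ext fun a => ?_)) x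
        show ψ (g (Localization.localRingHom p q (algebraMap A B) hq.symm (algebraMap A Ap a))) =
          Ideal.Quotient.mk J (algebraMap Ap C (algebraMap A Ap a))
        rw [Localization.localRingHom_to_map, hg, ι.commutes, IsScalarTower.algebraMap_apply A K (p.Fiber B),
          ← IsScalarTower.algebraMap_apply K (p.Fiber B) WP, ψ.commutes, ← IsScalarTower.algebraMap_apply A Ap C]
        rfl }
  obtain ⟨k, hk⟩ := hψ
  obtain ⟨v, hv⟩ := h' C J hJ ψ' ⟨k, fun x hx => hk _ (Ideal.pow_right_mono
    (((local_hom_TFAE g).out 0 2).1 (Localization.isLocalHom_localRingHom _ _ _ _)) k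
    (by rw [← Ideal.map_pow]; exact Ideal.mem_map_of_mem _ hx))⟩
  let vB : B →ₐ[A] C :=
    { v.toRingHom.comp (algebraMap B Bq) with
      commutes' := fun a => by
        show v (algebraMap B Bq (algebraMap A B a)) = _
        rw [← Localization.localRingHom_to_map p q (algebraMap A B) hq.symm a]
        exact (v.commutes _).trans (IsScalarTower.algebraMap_apply A Ap C a).symm }
  let w : p.Fiber B →ₐ[K] C := Algebra.TensorProduct.lift (Algebra.ofId K C) vB fun _ _ => Commute.all _ _
  have hmkw : ∀ x, Ideal.Quotient.mk J (w x) = ψ (algebraMap (p.Fiber B) WP x) := fun x => by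
    induction x using TensorProduct.induction_on with
    | zero => simp
    | tmul c b =>
      have h1 : (c ⊗ₜ[A] b : p.Fiber B) = algebraMap K (p.Fiber B) c * ι b := by
        rw [Algebra.TensorProduct.algebraMap_apply, Algebra.algebraMap_self, RingHom.id_apply,
          Algebra.TensorProduct.includeRight_apply, Algebra.TensorProduct.tmul_mul_tmul, mul_one, one_mul]
      rw [h1, map_mul, map_mul, map_mul, map_mul, w.commutes, ← IsScalarTower.algebraMap_apply K (p.Fiber B) WP,
        ψ.commutes]
      congr 1
      show Ideal.Quotient.mk J (Algebra.TensorProduct.lift _ _ _ ((1 : K) ⊗ₜ[A] b)) = _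
      rw [Algebra.TensorProduct.lift_tmul, map_one, one_mul]
      exact (AlgHom.congr_fun hv (algebraMap B Bq b)).trans (congrArg ψ (hg b))
    | add x y hx hy => simp only [map_add, hx, hy]
  have hu : ∀ y : P.primeCompl, IsUnit (w y) := fun y => by
    have h1 : IsUnit (Ideal.Quotient.mk J (w y)) := by
      rw [hmkw]
      exact (IsLocalization.map_units WP y).map ψ
    obtain ⟨z, hz⟩ := h1.exists_right_inv
    obtain ⟨z, rfl⟩ := Ideal.Quotient.mk_surjective z
    rw [← map_mul, ← map_one (Ideal.Quotient.mk J), Ideal.Quotient.eq] at hz
    have h2 : IsNilpotent (w y * z - 1) := ⟨2, by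
      have := Ideal.pow_mem_pow hz 2
      rwa [hJ, Ideal.mem_bot] at this⟩
    have h3 := h2.isUnit_add_one
    rw [sub_add_cancel] at h3
    exact isUnit_of_mul_isUnit_left h3
  refine ⟨IsLocalization.liftAlgHom (S := WP) (f := w) hu, ?_⟩
  refine AlgHom.ext fun x => RingHom.congr_fun (IsLocalization.ringHom_ext P.primeCompl (S := WP)
    (j := (Ideal.Quotient.mk J).comp (IsLocalization.liftAlgHom (S := WP) (f := w) hu).toRingHom) (k := ψ.toRingHom)
    (RingHom.ext fun z => ?_)) x
  show Ideal.Quotient.mk J (IsLocalization.liftAlgHom (S := WP) (f := w) hu (algebraMap _ WP z)) = _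
  rw [IsLocalization.liftAlgHom_apply, IsLocalization.lift_eq]
  exact hmkw z

/-- A ring map whose local maps are formally smooth is regular. -/
theorem isRegularHom_of_forall_local {A B : Type u} [CommRing A] [CommRing B] [Algebra A B] [IsNoetherianRing A]
    [IsNoetherianRing B]
    (h : ∀ (q : Ideal B) [q.IsPrime],
      letI := (Localization.localRingHom (q.comap (algebraMap A B)) q (algebraMap A B) rfl).toAlgebra
      CAlgX.IsAdicFormallySmooth (Localization.AtPrime (q.comap (algebraMap A B))) (Localization.AtPrime q)
        (maximalIdeal (Localization.AtPrime q))) :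
    CAlg.IsRegularHom A B := by
  refine ⟨Module.flat_of_isLocalized_maximal B B (fun M _ => Localization.AtPrime M)
    (fun M _ => Algebra.linearMap B (Localization.AtPrime M)) fun M _ => ?_,
    fun p _ => ⟨RegLocus.isNoetherianRing_fiber A B p, isGeometricallyRegular_fiber p fun q _ _ => h q⟩⟩
  let p := M.comap (algebraMap A B)
  letI : Algebra (Localization.AtPrime p) (Localization.AtPrime M) :=
    (Localization.localRingHom p M (algebraMap A B) rfl).toAlgebra
  haveI : IsScalarTower A (Localization.AtPrime p) (Localization.AtPrime M) :=
    IsScalarTower.of_algebraMap_eq fun a => by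
      rw [IsScalarTower.algebraMap_apply A B (Localization.AtPrime M)]
      exact (Localization.localRingHom_to_map p M (algebraMap A B) rfl a).symm
  haveI : IsLocalHom (algebraMap (Localization.AtPrime p) (Localization.AtPrime M)) :=
    Localization.isLocalHom_localRingHom _ _ _ _
  haveI : Module.Flat (Localization.AtPrime p) (Localization.AtPrime M) := flat_of_discrete (h M)
  haveI : Module.Flat A (Localization.AtPrime p) := IsLocalization.flat _ p.primeCompl
  exact Module.Flat.trans A (Localization.AtPrime p) (Localization.AtPrime M)

/-- The local maps of a regular ring map are formally smooth. -/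
theorem discrete_local_of_isRegularHom {A B : Type u} [CommRing A] [CommRing B] [Algebra A B] [IsNoetherianRing A]
    [IsNoetherianRing B] (h : CAlg.IsRegularHom A B) (q : Ideal B) [q.IsPrime] :
    letI := (Localization.localRingHom (q.comap (algebraMap A B)) q (algebraMap A B) rfl).toAlgebra
    CAlgX.IsAdicFormallySmooth (Localization.AtPrime (q.comap (algebraMap A B))) (Localization.AtPrime q)
      (maximalIdeal (Localization.AtPrime q)) := by
  let p := q.comap (algebraMap A B)
  letI : Algebra (Localization.AtPrime p) (Localization.AtPrime q) :=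
    (Localization.localRingHom p q (algebraMap A B) rfl).toAlgebra
  haveI : IsScalarTower A (Localization.AtPrime p) (Localization.AtPrime q) :=
    IsScalarTower.of_algebraMap_eq fun a => by
      rw [IsScalarTower.algebraMap_apply A B (Localization.AtPrime q)]
      exact (Localization.localRingHom_to_map p q (algebraMap A B) rfl a).symm
  haveI : IsLocalHom (algebraMap (Localization.AtPrime p) (Localization.AtPrime q)) :=
    Localization.isLocalHom_localRingHom _ _ _ _
  have h1 := CAlgGRing.isRegularHom_localization_target A B (Localization.AtPrime q) q.primeCompl h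
  have h2 : CAlg.IsRegularHom (Localization.AtPrime p) (Localization.AtPrime q) :=
    CAlgGRing.isRegularHom_localization_source A _ _ p.primeCompl h1
  haveI := h2.1
  exact discrete_of_flat_of_fibre _ _ ((fibre_iff _ _).2 (h2.2 (maximalIdeal (Localization.AtPrime p))).2)

/-- Formal smoothness does not see a localisation of the base. -/
theorem discrete_base_iff {A A' S : Type u} [CommRing A] [CommRing A'] [CommRing S] [Algebra A A'] [Algebra A' S]
    [Algebra A S] [IsScalarTower A A' S] (M : Submonoid A) [IsLocalization M A'] (𝔟 : Ideal S) :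
    CAlgX.IsAdicFormallySmooth A' S 𝔟 ↔ CAlgX.IsAdicFormallySmooth A S 𝔟 := by
  constructor
  · intro h C _ _ J hJ ψ hψ
    have hu : ∀ m : M, IsUnit (algebraMap A C m) := fun m => by
      have h1 : IsUnit (algebraMap A (C ⧸ J) m) := by
        rw [← ψ.commutes, IsScalarTower.algebraMap_apply A A' S]
        exact ((IsLocalization.map_units A' m).map _).map ψ
      exact (IsNilpotent.isUnit_quotient_mk_iff (I := J) ⟨2, hJ⟩).1 h1
    letI : Algebra A' C := (IsLocalization.lift hu).toAlgebra
    haveI : IsScalarTower A A' C := IsScalarTower.of_algebraMap_eq fun a => (IsLocalization.lift_eq hu a).symm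
    haveI : IsScalarTower A A' (C ⧸ J) := IsScalarTower.of_algebraMap_eq fun a =>
      congrArg (Ideal.Quotient.mk J) (IsScalarTower.algebraMap_apply A A' C a)
    let ψ' : S →ₐ[A'] C ⧸ J :=
      { ψ.toRingHom with
        commutes' := fun x => RingHom.congr_fun (IsLocalization.ringHom_ext M (S := A')
          (j := ψ.toRingHom.comp (algebraMap A' S)) (k := algebraMap A' (C ⧸ J)) (RingHom.ext fun a => by
            show ψ (algebraMap A' S (algebraMap A A' a)) = algebraMap A' (C ⧸ J) (algebraMap A A' a)
            rw [← IsScalarTower.algebraMap_apply, ← IsScalarTower.algebraMap_apply, ψ.commutes])) x }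
    obtain ⟨χ, hχ⟩ := h C J hJ ψ' hψ
    exact ⟨χ.restrictScalars A, AlgHom.ext fun x => AlgHom.congr_fun hχ x⟩
  · intro h C _ _ J hJ ψ hψ
    letI : Algebra A C := ((algebraMap A' C).comp (algebraMap A A')).toAlgebra
    haveI : IsScalarTower A A' C := IsScalarTower.of_algebraMap_eq fun _ => rfl
    haveI : IsScalarTower A A' (C ⧸ J) := IsScalarTower.of_algebraMap_eq fun _ => rfl
    obtain ⟨χ, hχ⟩ := h C J hJ (ψ.restrictScalars A) hψ
    refine ⟨{ χ.toRingHom with commutes' := fun x => ?_ }, AlgHom.ext fun x => AlgHom.congr_fun hχ x⟩
    exact RingHom.congr_fun (IsLocalization.ringHom_ext M (S := A')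
      (j := χ.toRingHom.comp (algebraMap A' S)) (k := algebraMap A' C) (RingHom.ext fun a => by
        show χ (algebraMap A' S (algebraMap A A' a)) = algebraMap A' C (algebraMap A A' a)
        rw [← IsScalarTower.algebraMap_apply, χ.commutes, ← IsScalarTower.algebraMap_apply])) x

/-- Formal smoothness transfers along an isomorphism of algebras. -/
theorem discrete_of_algEquiv {A S T : Type u} [CommRing A] [CommRing S] [CommRing T] [Algebra A S] [Algebra A T]
    [IsLocalRing S] [IsLocalRing T] (e : S ≃ₐ[A] T) (h : CAlgX.IsAdicFormallySmooth A S (maximalIdeal S)) :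
    CAlgX.IsAdicFormallySmooth A T (maximalIdeal T) := by
  have hm : (maximalIdeal S).map e.toRingEquiv.toRingHom = maximalIdeal T :=
    IsLocalRing.map_maximalIdeal_of_surjective e.toRingEquiv.toRingHom e.surjective
  rw [← hm]
  exact discrete_of_equiv (RingEquiv.refl A) e.toRingEquiv (fun c => e.commutes c) _ h

/-- A regular local map is formally smooth. -/
theorem discrete_of_isRegularHom_local {A B : Type u} [CommRing A] [CommRing B] [IsLocalRing A] [IsLocalRing B]
    [IsNoetherianRing B] [Algebra A B] [IsLocalHom (algebraMap A B)] (h : CAlg.IsRegularHom A B) :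
    CAlgX.IsAdicFormallySmooth A B (maximalIdeal B) := by
  haveI := h.1
  exact discrete_of_flat_of_fibre A B ((fibre_iff A B).2 (h.2 (maximalIdeal A)).2)

/-- Regularity can be checked on the local maps at maximal ideals. -/
theorem isRegularHom_of_forall_maximal {A B : Type u} [CommRing A] [CommRing B] [Algebra A B] [IsNoetherianRing B]
    (h : ∀ (M : Ideal B) [M.IsMaximal],
      letI := (Localization.localRingHom (M.comap (algebraMap A B)) M (algebraMap A B) rfl).toAlgebra
      CAlg.IsRegularHom (Localization.AtPrime (M.comap (algebraMap A B))) (Localization.AtPrime M)) :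
    CAlg.IsRegularHom A B := by
  refine ⟨Module.flat_of_isLocalized_maximal B B (fun M _ => Localization.AtPrime M)
    (fun M _ => Algebra.linearMap B (Localization.AtPrime M)) fun M _ => ?_,
    fun p _ => ⟨RegLocus.isNoetherianRing_fiber A B p, isGeometricallyRegular_fiber p fun q _ hq => ?_⟩⟩
  · let p := M.comap (algebraMap A B)
    letI : Algebra (Localization.AtPrime p) (Localization.AtPrime M) :=
      (Localization.localRingHom p M (algebraMap A B) rfl).toAlgebra
    haveI : IsScalarTower A (Localization.AtPrime p) (Localization.AtPrime M) :=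
      IsScalarTower.of_algebraMap_eq fun a => by
        rw [IsScalarTower.algebraMap_apply A B (Localization.AtPrime M)]
        exact (Localization.localRingHom_to_map p M (algebraMap A B) rfl a).symm
    haveI : Module.Flat (Localization.AtPrime p) (Localization.AtPrime M) := (h M).1
    haveI : Module.Flat A (Localization.AtPrime p) := IsLocalization.flat _ p.primeCompl
    exact Module.Flat.trans A (Localization.AtPrime p) (Localization.AtPrime M)
  · obtain ⟨M, hM, hqM⟩ := Ideal.exists_le_maximal q Ideal.IsPrime.ne_top'
    let m := M.comap (algebraMap A B)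
    let R := Localization.AtPrime m
    let S := Localization.AtPrime M
    letI : Algebra R S := (Localization.localRingHom m M (algebraMap A B) rfl).toAlgebra
    haveI : IsScalarTower A R S := IsScalarTower.of_algebraMap_eq fun a => by
      rw [IsScalarTower.algebraMap_apply A B S]
      exact (Localization.localRingHom_to_map m M (algebraMap A B) rfl a).symm
    have hdisj : Disjoint (M.primeCompl : Set B) q := Set.disjoint_left.2 fun x hx hxq => hx (hqM hxq)
    let q' : Ideal S := q.map (algebraMap B S)
    haveI : q'.IsPrime := IsLocalization.isPrime_of_isPrime_disjoint M.primeCompl _ q ‹_› hdisj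
    let r := q'.comap (algebraMap R S)
    let Rr := Localization.AtPrime r
    let Sq := Localization.AtPrime q'
    letI : Algebra Rr Sq := (Localization.localRingHom r q' (algebraMap R S) rfl).toAlgebra
    haveI : IsScalarTower R Rr Sq := IsScalarTower.of_algebraMap_eq fun a => by
      rw [IsScalarTower.algebraMap_apply R S Sq]
      exact (Localization.localRingHom_to_map r q' (algebraMap R S) rfl a).symm
    haveI : IsLocalHom (algebraMap Rr Sq) := Localization.isLocalHom_localRingHom _ _ _ _
    haveI : IsNoetherianRing Sq := IsLocalization.isNoetherianRing q'.primeCompl _ inferInstance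
    have h1 : CAlgX.IsAdicFormallySmooth Rr Sq (maximalIdeal Sq) := discrete_of_isRegularHom_local
      (FormalFibreQF.isRegularHom_localization R S Rr Sq r.primeCompl q'.primeCompl (h M))
    have h2 : CAlgX.IsAdicFormallySmooth A Sq (maximalIdeal Sq) :=
      (discrete_base_iff m.primeCompl _).1 ((discrete_base_iff r.primeCompl _).1 h1)
    have hloc : IsLocalization.AtPrime Sq (q'.comap (algebraMap B S)) :=
      IsLocalization.isLocalization_isLocalization_atPrime_isLocalization M.primeCompl (T := Sq) q'
    haveI hloc' : IsLocalization.AtPrime Sq q := by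
      convert hloc using 2
      exact (IsLocalization.comap_map_of_isPrime_disjoint M.primeCompl _ ‹_› hdisj).symm
    have h3 : CAlgX.IsAdicFormallySmooth A (Localization.AtPrime q) (maximalIdeal (Localization.AtPrime q)) :=
      discrete_of_algEquiv ((IsLocalization.algEquiv q.primeCompl Sq (Localization.AtPrime q)).restrictScalars A) h2
    letI : Algebra (Localization.AtPrime (q.comap (algebraMap A B))) (Localization.AtPrime q) :=
      (Localization.localRingHom (q.comap (algebraMap A B)) q (algebraMap A B) rfl).toAlgebra
    haveI : IsScalarTower A (Localization.AtPrime (q.comap (algebraMap A B))) (Localization.AtPrime q) :=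
      IsScalarTower.of_algebraMap_eq fun a => by
        rw [IsScalarTower.algebraMap_apply A B (Localization.AtPrime q)]
        exact (Localization.localRingHom_to_map _ q (algebraMap A B) rfl a).symm
    exact (discrete_base_iff (q.comap (algebraMap A B)).primeCompl _).2 h3

end Groth.Agent.CAlgAndre
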