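import Groth.Agent.CAlgAndre.Global
import Groth.Agent.CAlgGRing.Maximal
import Groth.Agent.FormalFibreQF.QuasiFinite
import Groth.Agent.Hensel.HenselizationAscent
import Mathlib

/-!
# Henselizations of G-rings
-/

set_option autoImplicit false

universe u

open IsLocalRing

namespace Groth.Agent.CAlgAndre

/-- Uniqueness of infinitesimal lifts out of the henselization at a point. -/
theorem algHom_ext_hens {R K C : Type u} [CommRing R] [Field K] [Algebra R K] [CommRing C] [Algebra R C]
    {S : Type u} [CommRing S] [Algebra R S] (e : Hensel.Hens R K ≃ₐ[R] S) (J : Ideal C) (hJ : J ^ 2 = ⊥)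
    (f g : S →ₐ[R] C) (h : ∀ s, Ideal.Quotient.mk J (f s) = Ideal.Quotient.mk J (g s)) : f = g := by
  refine AlgHom.ext fun s => ?_
  obtain ⟨z, rfl⟩ := e.surjective s
  obtain ⟨E, _, _, _, φ, x, rfl⟩ := Hensel.Hens.exists_rep_algHom z
  have h1 : (f.comp (e.toAlgHom.comp φ)) = g.comp (e.toAlgHom.comp φ) :=
    Algebra.FormallyUnramified.lift_unique J ⟨2, hJ⟩ _ _ (AlgHom.ext fun y => h _)
  exact AlgHom.congr_fun h1 x

/-- A local G-ring with formally unramified flat local extension: completion map is regular. -/
theorem isGRing_of_unramified {R S K : Type u} [CommRing R] [IsLocalRing R] [IsNoetherianRing R]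
    (hR : CAlg.IsGRing R) [CommRing S] [IsLocalRing S] [Algebra R S] [IsLocalHom (algebraMap R S)]
    [IsNoetherianRing S] [Module.Flat R S] [Field K] [Algebra R K] (e : Hensel.Hens R K ≃ₐ[R] S)
    (hFS : CAlgX.IsAdicFormallySmooth R S (maximalIdeal S)) : CAlg.IsGRing S := by
  obtain ⟨hS', hSff, -⟩ := RegLocus.cpl_facts S
  haveI := hS'
  haveI := hSff
  let T := EGA4.Cpl S
  haveI : IsLocalHom (algebraMap R T) := by
    rw [IsScalarTower.algebraMap_eq R S T]
    infer_instance
  have hRc : CAlg.IsRegularHom R (EGA4.Cpl R) := by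
    exact FormalFibreQF.isRegularHom_cpl_of_ringEquiv
      (IsLocalization.atUnits R (maximalIdeal R).primeCompl (S := Localization.AtPrime (maximalIdeal R))
        (fun x hx => not_not.1 hx)).symm.toRingEquiv (hR.2 (maximalIdeal R))
  have hRT : CAlg.IsRegularHom R T := isRegularHom_of_discrete hRc (discrete_completion hFS)
  have hST : CAlg.IsRegularHom S T := by
    refine isRegularHom_of_forall_local fun q _ => ?_
    let p := q.comap (algebraMap R T)
    let P := q.comap (algebraMap S T)
    let Tq := Localization.AtPrime q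
    letI : Algebra (Localization.AtPrime p) Tq := (Localization.localRingHom p q (algebraMap R T) rfl).toAlgebra
    haveI : IsScalarTower R (Localization.AtPrime p) Tq := IsScalarTower.of_algebraMap_eq fun a => by
      rw [IsScalarTower.algebraMap_apply R T Tq]
      exact (Localization.localRingHom_to_map p q (algebraMap R T) rfl a).symm
    letI : Algebra (Localization.AtPrime P) Tq := (Localization.localRingHom P q (algebraMap S T) rfl).toAlgebra
    haveI : IsScalarTower S (Localization.AtPrime P) Tq := IsScalarTower.of_algebraMap_eq fun a => by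
      rw [IsScalarTower.algebraMap_apply S T Tq]
      exact (Localization.localRingHom_to_map P q (algebraMap S T) rfl a).symm
    have h1 : CAlgX.IsAdicFormallySmooth R Tq (maximalIdeal Tq) :=
      (discrete_base_iff p.primeCompl _).1 (discrete_local_of_isRegularHom hRT q)
    refine (discrete_base_iff P.primeCompl _).2 ?_
    intro C _ _ J hJ ψ hψ
    letI : Algebra R C := ((algebraMap S C).comp (algebraMap R S)).toAlgebra
    haveI : IsScalarTower R S C := IsScalarTower.of_algebraMap_eq fun _ => rfl
    haveI : IsScalarTower R S (C ⧸ J) := IsScalarTower.of_algebraMap_eq fun _ => rfl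
    obtain ⟨χ, hχ⟩ := h1 C J hJ (ψ.restrictScalars R) hψ
    have h2 : χ.comp (IsScalarTower.toAlgHom R S Tq) = IsScalarTower.toAlgHom R S C :=
      algHom_ext_hens e J hJ _ _ fun s => (AlgHom.congr_fun hχ (algebraMap S Tq s)).trans (ψ.commutes s)
    exact ⟨{ χ.toRingHom with commutes' := fun s => AlgHom.congr_fun h2 s }, AlgHom.ext fun x => AlgHom.congr_fun hχ x⟩
  refine (CAlgGRing.isGRing_iff_maximal S).2 fun m hm => ?_
  obtain rfl := eq_maximalIdeal hm
  exact FormalFibreQF.isRegularHom_cpl_of_ringEquiv
    (IsLocalization.atUnits S (maximalIdeal S).primeCompl (S := Localization.AtPrime (maximalIdeal S))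
      (fun x hx => not_not.1 hx)).toRingEquiv hST

/-- Unramified flat local extensions with separable residue extension are formally smooth. -/
theorem discrete_of_separable {R S : Type u} [CommRing R] [IsLocalRing R] [CommRing S] [IsLocalRing S] [Algebra R S]
    [IsLocalHom (algebraMap R S)] [IsNoetherianRing S] [Module.Flat R S]
    (hm : (maximalIdeal R).map (algebraMap R S) = maximalIdeal S)
    [Algebra.IsSeparable (ResidueField R) (ResidueField S)] : CAlgX.IsAdicFormallySmooth R S (maximalIdeal S) := by
  refine discrete_of_flat_of_fibre R S ?_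
  haveI := Algebra.FormallyEtale.of_isSeparable (ResidueField R) (ResidueField S)
  have h : CAlgX.IsAdicFormallySmooth (ResidueField R) (ResidueField S) (⊥ : Ideal (ResidueField S)) :=
    fun C _ _ J hJ ψ _ => Algebra.FormallySmooth.exists_lift J ⟨2, hJ⟩ ψ
  let e : ResidueField R ≃+* R ⧸ maximalIdeal R := RingEquiv.refl _
  let f : ResidueField S ≃+* S ⧸ (maximalIdeal R).map (algebraMap R S) := Ideal.quotEquivOfEq hm.symm
  have h1 := discrete_of_equiv (k := ResidueField R) (F := ResidueField S) e f (fun c => by
      obtain ⟨c, rfl⟩ := residue_surjective c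
      rfl) _ h
  rw [Ideal.map_bot] at h1
  have hbot : (maximalIdeal S).map (Ideal.Quotient.mk ((maximalIdeal R).map (algebraMap R S))) = ⊥ :=
    Ideal.map_eq_bot_iff_le_ker _ |>.2 (by rw [Ideal.mk_ker, hm])
  rw [hbot]
  exact h1

end Groth.Agent.CAlgAndre
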