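import Groth.Agent.CAlgAndre.Main
import Groth.Agent.RegLocus.CplDescendHom
import Groth.Agent.S9294
import Mathlib

/-!
# André's theorem over local G-rings
-/

set_option autoImplicit false

universe u

open IsLocalRing TensorProduct

namespace Groth.Agent.CAlgAndre

/-- André's theorem: formal smoothness of the completion and regular completion map give regularity. -/
theorem isRegularHom_of_completion {A B : Type u} [CommRing A] [CommRing B] [IsLocalRing A] [IsLocalRing B]
    [IsNoetherianRing A] [IsNoetherianRing B] [Algebra A B] [IsLocalHom (algebraMap A B)]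
    (hA : CAlg.IsRegularHom A (AdicCompletion (maximalIdeal A) A))
    (h : CAlgX.IsAdicFormallySmooth A (AdicCompletion (maximalIdeal B) B)
      (maximalIdeal (AdicCompletion (maximalIdeal B) B))) : CAlg.IsRegularHom A B := by
  obtain ⟨hA', hAff, -⟩ := RegLocus.cpl_facts A
  obtain ⟨hB', hBff, -⟩ := RegLocus.cpl_facts B
  haveI := hA'
  haveI := hB'
  haveI := hAff
  haveI := hBff
  obtain ⟨_, _, hl⟩ := exists_completion_algebra A B
  haveI := hl
  let A' := AdicCompletion (maximalIdeal A) A
  let B' := AdicCompletion (maximalIdeal B) B
  have h' : CAlg.IsRegularHom A' B' := isRegularHom_of_complete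
    (discrete_of_dense (maximalIdeal A') _ (map_maximalIdeal_le A' B') (dense_completion A) h)
  have h'' : CAlg.IsRegularHom A B' := S9294.result A A' B' hA h' fun p _ => RegLocus.isNoetherianRing_fiber A B' p
  exact RegLocus.isRegularHom_descend A B B' h''

theorem isRegularHom_of_discrete {A B : Type u} [CommRing A] [CommRing B] [IsLocalRing A] [IsLocalRing B]
    [IsNoetherianRing A] [IsNoetherianRing B] [Algebra A B] [IsLocalHom (algebraMap A B)]
    (hA : CAlg.IsRegularHom A (AdicCompletion (maximalIdeal A) A))
    (h : CAlgX.IsAdicFormallySmooth A B (maximalIdeal B)) : CAlg.IsRegularHom A B :=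
  isRegularHom_of_completion hA (discrete_completion h)

end Groth.Agent.CAlgAndre
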