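import Groth.Agent.CAlgAndre.Generic
import Groth.Agent.RegLocus.GeomRedTrans
import Groth.Agent.RegLocus.FieldTensor
import Mathlib

/-!
# André's theorem for complete local rings
-/

set_option autoImplicit false

universe u

open IsLocalRing TensorProduct

namespace Groth.Agent.CAlgAndre

/-- The lift of the closed fibre computes a formally smooth algebra over a finite extension. -/
theorem discrete_and_tensor_iso {P A B' B : Type u} [CommRing P] [CommRing A] [CommRing B'] [CommRing B]
    [IsLocalRing P] [IsLocalRing A] [IsLocalRing B'] [IsLocalRing B]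
    [IsNoetherianRing A] [IsNoetherianRing B'] [IsNoetherianRing B]
    [IsAdicComplete (maximalIdeal B') B'] [IsAdicComplete (maximalIdeal B) B]
    [Algebra P A] [Module.Finite P A] [Algebra P B] [IsLocalHom (algebraMap P B)] [Module.Flat P B]
    [Algebra A B'] [IsLocalHom (algebraMap A B')] [Module.Flat A B']
    (hres : Function.Surjective ((residue A).comp (algebraMap P A)))
    (hloc : (maximalIdeal P).map (algebraMap P A) ≤ maximalIdeal A)
    (hFS : CAlgX.IsAdicFormallySmooth A B' (maximalIdeal B'))
    (g₀ : B →+* B' ⧸ (maximalIdeal A).map (algebraMap A B')) (hg₀ : Function.Surjective g₀)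
    (hcomp : g₀.comp (algebraMap P B) =
      (algebraMap A (B' ⧸ (maximalIdeal A).map (algebraMap A B'))).comp (algebraMap P A))
    (hker : RingHom.ker g₀ = (maximalIdeal P).map (algebraMap P B)) :
    CAlgX.IsAdicFormallySmooth P B (maximalIdeal B) ∧ Nonempty ((A ⊗[P] B) ≃ₐ[A] B') := by
  let I : Ideal B' := (maximalIdeal A).map (algebraMap A B')
  let IP : Ideal B := (maximalIdeal P).map (algebraMap P B)
  haveI : IsLocalRing (B' ⧸ I) := isLocalRing_quotient_map A B'
  haveI : IsLocalRing (B ⧸ IP) := isLocalRing_quotient_map P B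
  have hle : maximalIdeal P ≤ RingHom.ker (Ideal.Quotient.mk (maximalIdeal A) |>.comp (algebraMap P A)) :=
    fun x hx => Ideal.Quotient.eq_zero_iff_mem.2 (hloc (Ideal.mem_map_of_mem _ hx))
  let e0 : P ⧸ maximalIdeal P →+* A ⧸ maximalIdeal A := Ideal.Quotient.lift _ _ hle
  have he0 : Function.Bijective e0 := by
    refine ⟨?_, fun x => ?_⟩
    · letI : Field (P ⧸ maximalIdeal P) := Ideal.Quotient.field _
      exact e0.injective
    · obtain ⟨c, hc⟩ := hres x
      exact ⟨Ideal.Quotient.mk _ c, hc⟩
  let e := RingEquiv.ofBijective e0 he0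
  let f : (B ⧸ IP) ≃+* B' ⧸ I := (Ideal.quotEquivOfEq hker.symm).trans (RingHom.quotientKerEquivOfSurjective hg₀)
  have hf : ∀ b, f (Ideal.Quotient.mk IP b) = g₀ b := fun b => rfl
  have hB : CAlgX.IsAdicFormallySmooth P B (maximalIdeal B) := by
    refine discrete_of_flat_of_fibre P B ?_
    have h1 := discrete_of_equiv e.symm f.symm (fun c => by
      obtain ⟨c, rfl⟩ := e.surjective c
      obtain ⟨x, rfl⟩ := Ideal.Quotient.mk_surjective c
      rw [RingEquiv.symm_apply_apply, RingEquiv.symm_apply_eq]
      exact ((hf _).trans (RingHom.congr_fun hcomp x)).symm) _ (discrete_quotient (maximalIdeal A) hFS)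
    have hm : ((maximalIdeal B').map (Ideal.Quotient.mk I)).map f.symm.toRingHom =
        (maximalIdeal B).map (Ideal.Quotient.mk IP) := by
      rw [IsLocalRing.map_maximalIdeal_of_surjective _ Ideal.Quotient.mk_surjective,
        IsLocalRing.map_maximalIdeal_of_surjective _ Ideal.Quotient.mk_surjective]
      exact IsLocalRing.map_maximalIdeal_of_surjective f.symm.toRingHom f.symm.surjective
    rw [hm] at h1
    exact h1
  refine ⟨hB, ?_⟩
  letI : Algebra P B' := ((algebraMap A B').comp (algebraMap P A)).toAlgebra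
  haveI : IsScalarTower P A B' := IsScalarTower.of_algebraMap_eq fun _ => rfl
  let u : B →ₐ[P] B' ⧸ I := { g₀ with commutes' := fun x => RingHom.congr_fun hcomp x }
  haveI : IsHausdorff ((maximalIdeal B').map (Ideal.Quotient.mk I)) (B' ⧸ I) := by
    rw [IsLocalRing.map_maximalIdeal_of_surjective _ Ideal.Quotient.mk_surjective]
    infer_instance
  obtain ⟨v, -, hvu⟩ := FSAdic.lift_adicComplete (⊥ : Ideal P) (maximalIdeal B) (maximalIdeal B')
    (adic_of_discrete hB) ⟨1, by rw [pow_one, Ideal.map_bot]; exact bot_le⟩ I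
    ⟨1, by rw [pow_one]; exact map_maximalIdeal_le A B'⟩ u ⟨1, by
      rw [pow_one, IsLocalRing.map_maximalIdeal_of_surjective (Ideal.Quotient.mk I) Ideal.Quotient.mk_surjective]
      exact (IsLocalRing.map_maximalIdeal_of_surjective u.toRingHom hg₀).le⟩
  have hv : ∀ b, Ideal.Quotient.mk I (v b) = g₀ b := fun b => AlgHom.congr_fun hvu b
  let Ψ : A ⊗[P] B →ₐ[A] B' := Algebra.TensorProduct.lift (Algebra.ofId A B') v fun _ _ => Commute.all _ _
  have hΨ : ∀ a b, Ψ (a ⊗ₜ b) = algebraMap A B' a * v b := fun a b => Algebra.TensorProduct.lift_tmul _ _ _ a b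
  letI : Algebra B (A ⊗[P] B) := Algebra.TensorProduct.rightAlgebra
  haveI : Module.Finite B (A ⊗[P] B) := Module.Finite.equiv (Algebra.TensorProduct.commRight P B A).toLinearEquiv
  haveI : IsNoetherianRing (A ⊗[P] B) := IsNoetherianRing.of_finite B (A ⊗[P] B)
  let MB : Ideal (A ⊗[P] B) := (maximalIdeal B).map (algebraMap B (A ⊗[P] B))
  haveI : IsAdicComplete (maximalIdeal B) (A ⊗[P] B) := CplFin.isAdicComplete_of_finite B _ _
  haveI : IsAdicComplete MB (A ⊗[P] B) := (IsAdicComplete.map_algebraMap_iff _ _).2 inferInstance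
  let J : Ideal (A ⊗[P] B) := (maximalIdeal P).map (algebraMap P (A ⊗[P] B))
  have hJ : J ≤ MB := by
    show (maximalIdeal P).map _ ≤ MB
    rw [show algebraMap P (A ⊗[P] B) = (algebraMap B (A ⊗[P] B)).comp (algebraMap P B) from RingHom.ext fun c =>
      ((Algebra.TensorProduct.includeRight : B →ₐ[P] A ⊗[P] B).commutes c).symm, ← Ideal.map_map]
    exact Ideal.map_mono (map_maximalIdeal_le P B)
  haveI : IsAdicComplete J (A ⊗[P] B) := CAlgCompl.isAdicComplete_of_le hJ (IsNoetherian.noetherian _) _
  obtain ⟨N, hN⟩ := exists_pow_le_of_finite (P := P) (A := A)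
  have hJmap : J.map Ψ.toRingHom = ((maximalIdeal P).map (algebraMap P A)).map (algebraMap A B') := by
    rw [Ideal.map_map, Ideal.map_map]
    congr 1
    exact RingHom.ext fun c => (AlgHom.congr_arg Ψ (IsScalarTower.algebraMap_apply P A (A ⊗[P] B) c)).trans
      (Ψ.commutes _)
  have happ : ∀ m, ∀ y : B', ∃ x, y - Ψ x ∈ (maximalIdeal A ^ m).map (algebraMap A B') := by
    intro m
    induction m with
    | zero =>
      intro y
      exact ⟨0, by simp [Ideal.one_eq_top, Ideal.map_top]⟩
    | succ m ih =>
      have step : ∀ z ∈ (maximalIdeal A ^ m).map (algebraMap A B'),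
          ∀ r : B', ∃ x, r * z - Ψ x ∈ (maximalIdeal A ^ (m + 1)).map (algebraMap A B') := by
        intro z hz
        induction hz using Submodule.span_induction with
        | mem z h =>
          obtain ⟨a, ha, rfl⟩ := h
          intro r
          obtain ⟨b, hb⟩ := hg₀ (Ideal.Quotient.mk I r)
          refine ⟨a ⊗ₜ b, ?_⟩
          rw [hΨ, show r * algebraMap A B' a - algebraMap A B' a * v b = algebraMap A B' a * (r - v b) by ring,
            pow_succ, Ideal.map_mul]
          refine Ideal.mul_mem_mul (Ideal.mem_map_of_mem _ ha) ?_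
          rw [← Ideal.Quotient.eq_zero_iff_mem, map_sub, hv, hb, sub_self]
        | zero => exact fun r => ⟨0, by simp⟩
        | add a b _ _ ha hb =>
          intro r
          obtain ⟨x, hx⟩ := ha r
          obtain ⟨y, hy⟩ := hb r
          refine ⟨x + y, ?_⟩
          rw [map_add, mul_add, add_sub_add_comm]
          exact add_mem hx hy
        | smul c a _ ha =>
          intro r
          rw [smul_eq_mul, ← mul_assoc]
          exact ha (r * c)
      intro y
      obtain ⟨x, hx⟩ := ih y
      obtain ⟨x', hx'⟩ := step _ hx 1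
      refine ⟨x + x', ?_⟩
      rw [map_add, ← sub_sub]
      rwa [one_mul] at hx'
  haveI : IsHausdorff (J.map Ψ.toRingHom) B' := by
    rw [hJmap]
    exact MvPSLib.isHausdorff_mono ((Ideal.map_mono hloc).trans (map_maximalIdeal_le A B')) inferInstance
  have hsurj : Function.Surjective Ψ := surjective_of_mk_map_comp_surjective (I := J) Ψ.toRingHom fun y => by
    obtain ⟨y, rfl⟩ := Ideal.Quotient.mk_surjective y
    obtain ⟨x, hx⟩ := happ N y
    refine ⟨x, (Ideal.Quotient.eq.2 ?_).symm⟩
    rw [hJmap]
    exact Ideal.map_mono hN hx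
  obtain ⟨g, hg, hkg⟩ := tensor_ker hres hloc (algebraMap A (B' ⧸ I)) (fun a ha => by
    rw [RingHom.mem_ker]
    exact Ideal.Quotient.eq_zero_iff_mem.2 (Ideal.mem_map_of_mem _ ha)) g₀ hcomp hker
  have hgΨ : ∀ x, Ideal.Quotient.mk I (Ψ x) = g x := fun x => by
    induction x using TensorProduct.induction_on with
    | zero => simp
    | tmul a b => rw [hΨ, hg, map_mul, hv]; rfl
    | add x y hx hy => simp only [map_add, hx, hy]
  have hMA : ((maximalIdeal A).map (algebraMap A (A ⊗[P] B))) ^ N ≤ MB := by
    rw [← Ideal.map_pow]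
    refine (Ideal.map_mono hN).trans ?_
    rw [Ideal.map_map, ← IsScalarTower.algebraMap_eq]
    exact hJ
  have hjac : (maximalIdeal A).map (algebraMap A (A ⊗[P] B)) ≤ Ideal.jacobson ⊥ := fun x hx => by
    rw [Ideal.jacobson, Submodule.mem_sInf]
    rintro M ⟨-, hM⟩
    exact hM.isPrime.mem_of_pow_mem N ((Submodule.mem_sInf.1 (IsAdicComplete.le_jacobson_bot MB
      (hMA (Ideal.pow_mem_pow hx N)))) M ⟨bot_le, hM⟩)
  have hinj : Function.Injective Ψ := injective_of_flat Ψ hsurj (maximalIdeal A) hjac fun x hx => by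
    rw [← hkg, RingHom.mem_ker, ← hgΨ, hx, map_zero]
  exact ⟨AlgEquiv.ofBijective Ψ ⟨hinj, hsurj⟩⟩

/-- Field generated by the fractions of a finite algebra is finite over the fraction field of the base. -/
theorem finite_of_fraction (P A K L : Type u) [CommRing P] [CommRing A] [Field K] [Field L] [Algebra P A]
    [Module.Finite P A] [Algebra P K] [Algebra A L] [Algebra K L] [Algebra P L] [IsScalarTower P A L]
    [IsScalarTower P K L] (h : ∀ z : L, ∃ a b : A, algebraMap A L a / algebraMap A L b = z) :
    Module.Finite K L := by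
  classical
  obtain ⟨s, hs⟩ := Module.Finite.fg_top (R := P) (M := A)
  let E := IntermediateField.adjoin K (algebraMap A L '' (s : Set A))
  haveI : FiniteDimensional K E := by
    refine IntermediateField.finiteDimensional_adjoin fun x hx => ?_
    obtain ⟨a, -, rfl⟩ := hx
    exact ((IsIntegral.of_finite P a).map (IsScalarTower.toAlgHom P A L)).tower_top
  have hmem : ∀ a : A, algebraMap A L a ∈ E := fun a => by
    have ha : a ∈ Submodule.span P (s : Set A) := hs ▸ Submodule.mem_top
    induction ha using Submodule.span_induction with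
    | mem x hx => exact IntermediateField.subset_adjoin K _ ⟨x, hx, rfl⟩
    | zero => rw [map_zero]; exact zero_mem E
    | add x y _ _ hx hy => rw [map_add]; exact add_mem hx hy
    | smul c x _ hx =>
      rw [Algebra.smul_def, map_mul, ← IsScalarTower.algebraMap_apply, IsScalarTower.algebraMap_apply P K L]
      exact mul_mem (E.algebraMap_mem _) hx
  have hE : E = ⊤ := eq_top_iff.2 fun z _ => by
    obtain ⟨a, b, rfl⟩ := h z
    exact div_mem (hmem a) (hmem b)
  exact Module.Finite.equiv ((IntermediateField.equivOfEq hE).trans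
    (IntermediateField.topEquiv (F := K) (E := L))).toLinearEquiv

set_option maxHeartbeats 1000000 in
/-- André: formally smooth local homomorphisms of complete Noetherian local rings are regular. -/
theorem isRegularHom_of_complete {A B : Type u} [CommRing A] [CommRing B] [IsLocalRing A] [IsLocalRing B]
    [IsNoetherianRing A] [IsNoetherianRing B] [IsAdicComplete (maximalIdeal A) A]
    [IsAdicComplete (maximalIdeal B) B] [Algebra A B] [IsLocalHom (algebraMap A B)]
    (h : CAlgX.IsAdicFormallySmooth A B (maximalIdeal B)) : CAlg.IsRegularHom A B := by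
  refine ⟨flat_of_discrete_complete h, fun r _ => ⟨RegLocus.isNoetherianRing_fiber A B r, fun k' _ _ hfin => ?_⟩⟩
  haveI := hfin
  -- the domain quotient and its algebra
  let A' := A ⧸ r
  let J : Ideal B := r.map (algebraMap A B)
  let B' := B ⧸ J
  haveI : IsLocalRing A' := IsLocalRing.of_surjective' (Ideal.Quotient.mk r) Ideal.Quotient.mk_surjective
  have hJ : J ≤ maximalIdeal B := (Ideal.map_mono (le_maximalIdeal Ideal.IsPrime.ne_top')).trans (map_maximalIdeal_le A B)
  haveI : Nontrivial B' := Ideal.Quotient.nontrivial_iff.2 (ne_top_of_le_ne_top (maximalIdeal.isMaximal B).ne_top hJ)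
  haveI : IsLocalRing B' := IsLocalRing.of_surjective' (Ideal.Quotient.mk J) Ideal.Quotient.mk_surjective
  haveI : IsAdicComplete (maximalIdeal A') A' := ArtHull.isAdicComplete_quotient r
  haveI : IsAdicComplete (maximalIdeal B') B' := ArtHull.isAdicComplete_quotient J
  have hmA : (maximalIdeal A).map (Ideal.Quotient.mk r) = maximalIdeal A' :=
    IsLocalRing.map_maximalIdeal_of_surjective _ Ideal.Quotient.mk_surjective
  have hmB : (maximalIdeal B).map (Ideal.Quotient.mk J) = maximalIdeal B' :=
    IsLocalRing.map_maximalIdeal_of_surjective _ Ideal.Quotient.mk_surjective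
  haveI : IsLocalHom (algebraMap A' B') := by
    refine ((local_hom_TFAE (algebraMap A' B')).out 2 0).1 ?_
    rw [← hmA, Ideal.map_map, ← hmB,
      show (algebraMap A' B').comp (Ideal.Quotient.mk r) = (Ideal.Quotient.mk J).comp (algebraMap A B) from
        RingHom.ext fun _ => rfl, ← Ideal.map_map]
    exact Ideal.map_mono (map_maximalIdeal_le A B)
  have h' : CAlgX.IsAdicFormallySmooth A' B' (maximalIdeal B') := hmB ▸ discrete_quotient r h
  haveI : Module.Flat A' B' := flat_of_discrete_complete h'
  -- normalisation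
  obtain ⟨Λ, _, n, f, hΛ, hinj, hfin', hres⟩ := CAlgCohen.exists_normalization (R := A')
  obtain ⟨hΛr, -⟩ := base_props hΛ
  haveI := hΛr
  let P := MvPowerSeries (Fin n) Λ
  letI : Algebra P A' := f.toAlgebra
  haveI : Module.Finite P A' := hfin'
  haveI : IsDomain P := Function.Injective.isDomain f hinj
  obtain ⟨hPr, -⟩ := isRegular_mvPowerSeries Λ n
  haveI := hPr
  have hloc : (maximalIdeal P).map (algebraMap P A') ≤ maximalIdeal A' := by
    rw [Ideal.map_le_iff_le_comap]
    have hmax : ((maximalIdeal A').comap f).IsMaximal :=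
      Ideal.isMaximal_comap_of_isIntegral_of_isMaximal (R := P) (maximalIdeal A')
    exact (eq_maximalIdeal hmax).ge
  let I' : Ideal B' := (maximalIdeal A').map (algebraMap A' B')
  haveI : IsLocalRing (B' ⧸ I') := isLocalRing_quotient_map A' B'
  haveI : IsAdicComplete (maximalIdeal (B' ⧸ I')) (B' ⧸ I') := ArtHull.isAdicComplete_quotient I'
  haveI : IsRegularLocalRing (B' ⧸ I') := by
    have h1 := discrete_quotient (maximalIdeal A') h'
    rw [IsLocalRing.map_maximalIdeal_of_surjective _ Ideal.Quotient.mk_surjective] at h1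
    letI : Field (A' ⧸ maximalIdeal A') := Ideal.Quotient.field _
    exact (SymGr.isAdicFormallySmooth_field_iff_regular.1 h1).1
  obtain ⟨B₀, _, _, _, g₀, hB₀c, hB₀l, hB₀f, hg₀, hcomp, hker⟩ := exists_lift_powerSeries hΛ n
    ((algebraMap A' (B' ⧸ I')).comp (algebraMap P A')) (fun x hx => by
      rw [RingHom.mem_ker, RingHom.comp_apply]
      exact Ideal.Quotient.eq_zero_iff_mem.2 (Ideal.mem_map_of_mem _ (hloc (Ideal.mem_map_of_mem _ hx))))
  haveI := hB₀c
  haveI := hB₀l
  haveI := hB₀f
  obtain ⟨hFS₀, ⟨Ψ⟩⟩ := discrete_and_tensor_iso (B := B₀) hres hloc h' g₀ hg₀ hcomp hker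
  let K := FractionRing P
  have hgen : CAlg.IsGeometricallyRegular K (K ⊗[P] B₀) := generic_fibre hΛ n K hFS₀
  -- the field
  letI : Algebra A k' := ((algebraMap r.ResidueField k').comp (algebraMap A r.ResidueField)).toAlgebra
  haveI : IsScalarTower A r.ResidueField k' := IsScalarTower.of_algebraMap_eq fun _ => rfl
  letI : Algebra A' k' := ((algebraMap r.ResidueField k').comp (algebraMap A' r.ResidueField)).toAlgebra
  haveI : IsScalarTower A' r.ResidueField k' := IsScalarTower.of_algebraMap_eq fun _ => rfl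
  haveI : IsScalarTower A A' k' := IsScalarTower.of_algebraMap_eq fun a => by
    show algebraMap r.ResidueField k' _ = algebraMap r.ResidueField k' _
    rw [← IsScalarTower.algebraMap_apply A A' r.ResidueField]
  letI : Algebra P r.ResidueField := ((algebraMap A' r.ResidueField).comp f).toAlgebra
  haveI : IsScalarTower P A' r.ResidueField := IsScalarTower.of_algebraMap_eq fun _ => rfl
  have hPinj : Function.Injective (algebraMap P r.ResidueField) :=
    (IsFractionRing.injective A' r.ResidueField).comp hinj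
  letI : Algebra K r.ResidueField := (IsFractionRing.lift hPinj).toAlgebra
  haveI : IsScalarTower P K r.ResidueField := IsScalarTower.of_algebraMap_eq fun x =>
    (IsFractionRing.lift_algebraMap hPinj x).symm
  haveI : Module.Finite K r.ResidueField := finite_of_fraction P A' K r.ResidueField fun z => by
    obtain ⟨a, b, -, hab⟩ := IsFractionRing.div_surjective A' z
    exact ⟨a, b, hab⟩
  letI : Algebra K k' := ((algebraMap r.ResidueField k').comp (algebraMap K r.ResidueField)).toAlgebra
  haveI : IsScalarTower K r.ResidueField k' := IsScalarTower.of_algebraMap_eq fun _ => rfl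
  haveI : Module.Finite K k' := Module.Finite.trans r.ResidueField k'
  letI : Algebra P k' := ((algebraMap r.ResidueField k').comp (algebraMap P r.ResidueField)).toAlgebra
  haveI : IsScalarTower P K k' := IsScalarTower.of_algebraMap_eq fun x =>
    congrArg (algebraMap r.ResidueField k') (IsScalarTower.algebraMap_apply P K r.ResidueField x)
  haveI : IsScalarTower P A' k' := IsScalarTower.of_algebraMap_eq fun _ => rfl
  have h1 : IsRegularRing (k' ⊗[K] (K ⊗[P] B₀)) := hgen k' inferInstance
  let e1 : k' ⊗[K] (K ⊗[P] B₀) ≃+* k' ⊗[P] B₀ := (Algebra.TensorProduct.cancelBaseChange P K k' k' B₀).toRingEquiv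
  let e2 : k' ⊗[P] B₀ ≃+* k' ⊗[A'] (A' ⊗[P] B₀) :=
    (Algebra.TensorProduct.cancelBaseChange P A' k' k' B₀).symm.toRingEquiv
  let e3 : k' ⊗[A'] (A' ⊗[P] B₀) ≃+* k' ⊗[A'] B' :=
    (Algebra.TensorProduct.congr (AlgEquiv.refl : k' ≃ₐ[A'] k') Ψ).toRingEquiv
  let e4 : k' ⊗[A'] B' ≃+* k' ⊗[A'] (A' ⊗[A] B) := by
    refine (Algebra.TensorProduct.congr (AlgEquiv.refl : k' ≃ₐ[A'] k') ?_).toRingEquiv
    refine AlgEquiv.ofRingEquiv (f := ((Algebra.TensorProduct.quotIdealMapEquivTensorQuot B r).toRingEquiv.trans
      (Algebra.TensorProduct.comm A B A').toRingEquiv)) fun x => ?_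
    obtain ⟨a, rfl⟩ := Ideal.Quotient.mk_surjective x
    show Algebra.TensorProduct.comm A B A' (Algebra.TensorProduct.quotIdealMapEquivTensorQuot B r
      (Ideal.Quotient.mk J (algebraMap A B a))) = algebraMap A' (A' ⊗[A] B) (Ideal.Quotient.mk r a)
    rw [Algebra.TensorProduct.quotIdealMapEquivTensorQuot_mk, Algebra.TensorProduct.comm_tmul,
      Algebra.TensorProduct.algebraMap_apply, Algebra.algebraMap_self, RingHom.id_apply,
      Algebra.algebraMap_eq_smul_one, ← TensorProduct.smul_tmul, ← Algebra.algebraMap_eq_smul_one]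
    rfl
  let e5 : k' ⊗[A'] (A' ⊗[A] B) ≃+* k' ⊗[A] B :=
    (Algebra.TensorProduct.cancelBaseChange A A' k' k' B).toRingEquiv
  let e6 : k' ⊗[A] B ≃+* k' ⊗[r.ResidueField] r.Fiber B :=
    (Algebra.TensorProduct.cancelBaseChange A r.ResidueField k' k' B).symm.toRingEquiv
  exact IsRegularRing.of_ringEquiv (R := k' ⊗[K] (K ⊗[P] B₀)) (((((e1.trans e2).trans e3).trans e4).trans e5).trans e6)

end Groth.Agent.CAlgAndre
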