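import Groth.Agent.CAlgCohen.Structure
import Groth.Agent.CAlgReg.Basic
import Groth.Agent.FlatLocalDepth.Miracle
import Groth.Agent.LocCohBasic.RegularPd
import Mathlib

/-!
# Regular local rings: power series and a flatness criterion
-/

set_option autoImplicit false

universe u

open IsLocalRing MvPowerSeries Groth.Agent.FSAdic

namespace Groth.Agent.CAlgAndre

theorem le_ringKrullDim_mvPowerSeries (R : Type u) [CommRing R] [Nontrivial R] :
    ∀ m : ℕ, ringKrullDim R + m ≤ ringKrullDim (MvPowerSeries (Fin m) R) := by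
  intro m
  induction m with
  | zero =>
    rw [ringKrullDim_eq_of_ringEquiv (MvPowerSeries.isEmptyEquiv (σ := Fin 0) (R := R)).toRingEquiv, Nat.cast_zero,
      add_zero]
  | succ m ih =>
    rw [ringKrullDim_eq_of_ringEquiv (MvPowerSeries.finSuccEquiv R m).toRingEquiv, Nat.cast_succ, ← add_assoc]
    exact le_trans (add_le_add ih le_rfl) ringKrullDim_succ_le_ringKrullDim_powerseries

theorem spanFinrank_mvPowerSeries_le (R : Type u) [CommRing R] [IsLocalRing R] [IsNoetherianRing R] (m : ℕ) :
    (maximalIdeal (MvPowerSeries (Fin m) R)).spanFinrank ≤ (maximalIdeal R).spanFinrank + m := by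
  classical
  obtain ⟨s, hcard, hs⟩ := Submodule.FG.exists_span_finset_card_eq_spanFinrank
    (maximalIdeal R).fg_of_isNoetherianRing
  have h : maximalIdeal (MvPowerSeries (Fin m) R) = Ideal.span
      (((s.image (C (σ := Fin m)) : Finset (MvPowerSeries (Fin m) R)) : Set (MvPowerSeries (Fin m) R)) ∪ Set.range X) := by
    rw [CAlgCohen.maximalIdeal_mvPowerSeries, augIdeal_eq_span, Ideal.span_union, Finset.coe_image,
      ← Ideal.map_span]
    exact congrArg (fun I => Ideal.map C I ⊔ _) hs.symm
  rw [h]
  refine (Submodule.spanFinrank_span_le_ncard_of_finite ((Finset.finite_toSet _).union (Set.finite_range _))).trans ?_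
  refine (Set.ncard_union_le _ _).trans (add_le_add ?_ ?_)
  · rw [Set.ncard_coe_finset]
    exact Finset.card_image_le.trans hcard.le
  · rw [← Set.image_univ]
    exact (Set.ncard_image_le).trans (by simp)

/-- Power series over a regular local ring form a regular local ring. -/
theorem isRegular_mvPowerSeries (R : Type u) [CommRing R] [IsRegularLocalRing R] (m : ℕ) :
    IsRegularLocalRing (MvPowerSeries (Fin m) R) ∧
      ringKrullDim (MvPowerSeries (Fin m) R) = ringKrullDim R + m := by
  have h1 : ((maximalIdeal (MvPowerSeries (Fin m) R)).spanFinrank : WithBot ℕ∞) ≤ ringKrullDim R + m := by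
    rw [CAlgReg.dim_eq_spanFinrank, ← Nat.cast_add]
    exact Nat.cast_le.2 (spanFinrank_mvPowerSeries_le R m)
  have h2 := le_ringKrullDim_mvPowerSeries R m
  have hreg : IsRegularLocalRing (MvPowerSeries (Fin m) R) :=
    IsRegularLocalRing.of_spanFinrank_maximalIdeal_le _ (h1.trans h2)
  refine ⟨hreg, le_antisymm ?_ h2⟩
  rw [@CAlgReg.dim_eq_spanFinrank _ _ hreg]
  exact h1

/-- A surjection onto a regular local ring from a local ring with no more generators is bijective. -/
theorem bijective_of_surjective {S F : Type u} [CommRing S] [IsLocalRing S] [IsNoetherianRing S] [CommRing F]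
    [IsRegularLocalRing F] (g : S →+* F) (hg : Function.Surjective g) {d : ℕ} (hd : ringKrullDim F = d)
    (hs : (maximalIdeal S).spanFinrank ≤ d) : Function.Bijective g := by
  have h1 : (d : WithBot ℕ∞) ≤ ringKrullDim S := hd ▸ ringKrullDim_le_of_surjective g hg
  have hreg : IsRegularLocalRing S :=
    IsRegularLocalRing.of_spanFinrank_maximalIdeal_le _ ((Nat.cast_le.2 hs).trans h1)
  haveI := CAlgReg.isDomain (R := S)
  have hdS : ringKrullDim S ≤ d := by
    rw [CAlgReg.dim_eq_spanFinrank]
    exact Nat.cast_le.2 hs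
  refine ⟨(injective_iff_map_eq_zero g).2 fun x hx => ?_, hg⟩
  by_contra hx0
  have h2 := ringKrullDim_quotient_succ_le_of_nonZeroDivisor (mem_nonZeroDivisors_of_ne_zero hx0)
  let g' : S ⧸ Ideal.span {x} →+* F := Ideal.Quotient.lift _ g fun a ha => by
    obtain ⟨c, rfl⟩ := Ideal.mem_span_singleton.1 ha
    rw [map_mul, hx, zero_mul]
  have h3 : (d : WithBot ℕ∞) ≤ ringKrullDim (S ⧸ Ideal.span {x}) :=
    hd ▸ ringKrullDim_le_of_surjective g' (Ideal.Quotient.lift_surjective_of_surjective _ _ hg)
  have h4 : (d : WithBot ℕ∞) + 1 ≤ d := le_trans (add_le_add h3 le_rfl) (h2.trans hdS)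
  have h5 : d + 1 ≤ d := by exact_mod_cast h4
  omega

/-- A local map of regular local rings with regular fibre of the expected dimension is flat, and the
fibre is the given regular quotient. -/
theorem flat_and_ker_eq {R S F : Type u} [CommRing R] [CommRing S] [CommRing F] [IsRegularLocalRing R]
    [IsRegularLocalRing S] [IsRegularLocalRing F] [Algebra R S] [IsLocalHom (algebraMap R S)] {d : ℕ}
    (hF : ringKrullDim F = d) (hS : ringKrullDim S = ringKrullDim R + d) (g : S →+* F)
    (hg : Function.Surjective g) (hker : (maximalIdeal R).map (algebraMap R S) ≤ RingHom.ker g)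
    (a : Fin d → S) (haM : ∀ i, a i ∈ maximalIdeal S)
    (ha : maximalIdeal S ≤ (maximalIdeal R).map (algebraMap R S) ⊔ Ideal.span (Set.range a)) :
    Module.Flat R S ∧ RingHom.ker g = (maximalIdeal R).map (algebraMap R S) := by
  classical
  let J : Ideal S := (maximalIdeal R).map (algebraMap R S)
  haveI : Nontrivial (S ⧸ J) := Ideal.Quotient.nontrivial_iff.2
    (ne_top_of_le_ne_top (RingHom.ker_ne_top g) hker)
  haveI : IsLocalRing (S ⧸ J) := IsLocalRing.of_surjective' (Ideal.Quotient.mk _) Ideal.Quotient.mk_surjective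
  have hle : J ≤ maximalIdeal S := le_maximalIdeal (ne_top_of_le_ne_top (RingHom.ker_ne_top g) hker)
  have hm : maximalIdeal (S ⧸ J) ≤ Ideal.span (Set.range (Ideal.Quotient.mk J ∘ a)) := by
    rw [← IsLocalRing.map_maximalIdeal_of_surjective _ Ideal.Quotient.mk_surjective]
    refine (Ideal.map_mono ha).trans ?_
    rw [Ideal.map_sup, Ideal.map_quotient_self, bot_sup_eq, Ideal.map_span, Set.range_comp]
  have hm' : maximalIdeal (S ⧸ J) = Ideal.span (Set.range (Ideal.Quotient.mk J ∘ a)) := by
    refine le_antisymm hm ?_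
    rw [Ideal.span_le]
    rintro _ ⟨i, rfl⟩
    rw [SetLike.mem_coe, ← IsLocalRing.map_maximalIdeal_of_surjective (Ideal.Quotient.mk J) Ideal.Quotient.mk_surjective]
    exact Ideal.mem_map_of_mem _ (haM i)
  let gb : S ⧸ J →+* F := Ideal.Quotient.lift J g fun x hx => hker hx
  have hgb : Function.Surjective gb := Ideal.Quotient.lift_surjective_of_surjective _ _ hg
  have hs : (maximalIdeal (S ⧸ J)).spanFinrank ≤ d := by
    rw [hm']
    refine (Submodule.spanFinrank_span_le_ncard_of_finite (Set.finite_range _)).trans ?_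
    rw [← Set.image_univ]
    exact (Set.ncard_image_le).trans (by simp)
  have hb := bijective_of_surjective gb hgb hF hs
  have hkereq : RingHom.ker g = J := le_antisymm (fun x hx => Ideal.Quotient.eq_zero_iff_mem.1 (hb.1
    (by rw [map_zero]; exact hx))) hker
  haveI : LocCoh.IsCohenMacaulayLocalRing S := LocCohBasic.isCohenMacaulayLocalRing_of_isRegularLocalRing
  refine ⟨FlatLocalDepth.miracle_flatness ?_, hkereq⟩
  rw [hS, ← hF]
  exact congrArg _ (ringKrullDim_eq_of_ringEquiv (RingEquiv.ofBijective gb hb)).symm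

end Groth.Agent.CAlgAndre
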